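import Cfsg.Agent.H85.AltHeight.Degree
import Cfsg.Agent.H18.AltBlock.Rank

/-!
# Configurations of given residues and weight
-/

set_option autoImplicit false
set_option linter.unusedSectionVars false
set_option linter.style.haveILetI false

open Cfsg Finset H18.SymBlock H18.AltBlock
open scoped Nat

namespace H85.AltHeight

variable {n p : ℕ} [hp : Fact p.Prime] {w : ℕ} {R : Multiset ℕ}

theorem card_confOf (ψ : IrrCharacter (Equiv.Perm (Fin n))) : #(confOf ψ) = n := by
  rw [confOf, Finset.card_image_of_injective _ (betaOf ψ).2.1.injective, Finset.card_univ,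
    Fintype.card_fin]

theorem sum_confOf (ψ : IrrCharacter (Equiv.Perm (Fin n))) :
    ∑ x ∈ confOf ψ, x = n + ∑ i, delta n i := by
  rw [confOf, Finset.sum_image fun a _ c _ h => (betaOf ψ).2.1.injective h, (betaOf ψ).2.2,
    Fintype.card_fin]

/-- The valuation of the degree in terms of the runners. -/
theorem val_degree_conf {ψ : IrrCharacter (Equiv.Perm (Fin n))} (h : ψ ∈ charsOf n p w R) :
    padicValNat p (H12.degree (ψ : Equiv.Perm (Fin n) → ℂ)) + w +
      ∑ r ∈ Finset.range p, hval p (runner p (confOf ψ) r) = padicValNat p n ! := by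
  have h1 := val_degree_add (p := p) (betaOf ψ)
  rw [irrOf_betaOf, show Finset.univ.image (betaOf ψ : Fin n → ℕ) = confOf ψ from rfl, hval_eq,
    (conf_of_mem h).2, Fintype.card_fin] at h1
  omega

theorem val_degree_ge {ψ : IrrCharacter (Equiv.Perm (Fin n))} (h : ψ ∈ charsOf n p w R) :
    padicValNat p n ! ≤
      padicValNat p (H12.degree (ψ : Equiv.Perm (Fin n) → ℂ)) + w + padicValNat p w ! := by
  have h1 := val_degree_conf h
  have h2 := sum_hval_le (p := p) (confOf ψ)
  rw [(conf_of_mem h).2] at h2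
  omega

theorem add_sum_ge {C : Finset ℕ} {z : ℕ} (hz : z ∉ C) :
    ∑ i ∈ Finset.range #C, i + (#C - z) ≤ ∑ x ∈ C, x := by
  induction C using Finset.induction_on_max with
  | empty => simp
  | insert a s h ih =>
    rw [Finset.mem_insert, not_or] at hz
    have ha : a ∉ s := fun hx => (h a hx).false
    rw [Finset.card_insert_of_notMem ha, Finset.sum_insert ha, Finset.sum_range_succ]
    have h1 := ih hz.2
    have h2 : s ⊆ (Finset.range a).erase z := fun q hq =>
      Finset.mem_erase.2 ⟨fun e => hz.2 (e ▸ hq), Finset.mem_range.2 (h q hq)⟩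
    have h3 := Finset.card_le_card h2
    by_cases hza : z < a
    · rw [Finset.card_erase_of_mem (Finset.mem_range.2 hza), Finset.card_range] at h3
      omega
    · rw [Finset.erase_eq_of_notMem (by simpa using not_lt.1 hza), Finset.card_range] at h3
      omega

/-- Every runner carries at least `w` beads. -/
theorem le_count_residue {ψ : IrrCharacter (Equiv.Perm (Fin n))} (h : ψ ∈ charsOf n p w R) {r : ℕ}
    (hr : r < p) : w ≤ R.count r := by
  classical
  obtain ⟨hinj, -, hw, hR⟩ := mem_charsOf.1 h
  set b : Fin n → ℕ := (betaOf ψ : Fin n → ℕ)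
  by_contra hlt
  obtain ⟨m, hm, hcore⟩ := exists_residual hp.out.pos (betaOf ψ).2
  replace hm : n = p * w + m := by
    have h1 := Fintype.card_fin n
    have h2 : weight p (betaOf ψ : Fin n → ℕ) = w := hw
    rw [h2] at hm
    omega
  set k := R.count r with hk
  have hnot : r + p * k ∉ Finset.univ.image (core p b) := by
    intro hmem
    obtain ⟨i, -, hi⟩ := Finset.mem_image.1 hmem
    simp only [core] at hi
    have hri : res p b i = r := by
      have := congrArg (fun x => x % p) hi
      simpa [res, Nat.mod_eq_of_lt hr] using this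
    have h2 := rnk_lt_cnum (quo_inj (p := p) hinj) i
    have hc : cnum (res p b) (res p b i) = k := by
      rw [hri, hk, ← hR, Multiset.count_map]
      exact congrArg Finset.card (Finset.filter_congr fun x _ => eq_comm)
    simp only [res] at hri
    rw [hri] at hi
    have h3 := Nat.eq_of_mul_eq_mul_left hp.out.pos (Nat.add_left_cancel hi)
    omega
  have h4 := add_sum_ge hnot
  have h6 : ∑ i, core p b i = m + ∑ i, delta n i := hcore
  rw [Finset.card_image_of_injective _ (core_injective hp.out.pos hinj),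
    Finset.sum_image fun a _ c _ e => core_injective hp.out.pos hinj e,
    Finset.card_univ, Fintype.card_fin, h6, sum_delta_eq] at h4
  have h5 : r + p * k < p * w := by
    have : p * (k + 1) ≤ p * w := Nat.mul_le_mul_left p (by omega)
    rw [Nat.mul_add] at this
    omega
  omega

/-- Realise prescribed runners. -/
theorem exists_char_of_runners {ψ₀ : IrrCharacter (Equiv.Perm (Fin n))} (h₀ : ψ₀ ∈ charsOf n p w R)
    (Q : ℕ → Finset ℕ) (hQc : ∀ r < p, #(Q r) = R.count r)
    (hQw : ∑ r ∈ Finset.range p, psize (Q r) = w) :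
    ∃ ψ ∈ charsOf n p w R, ∀ r < p, runner p (confOf ψ) r = Q r := by
  classical
  have hp0 := hp.out.pos
  obtain ⟨hR0, hw0⟩ := conf_of_mem h₀
  set S : Finset ℕ := (Finset.range p).biUnion fun r => (Q r).image fun q => r + p * q with hS
  have hrun : ∀ r < p, runner p S r = Q r := by
    intro r hr
    ext q
    rw [mem_runner hr]
    simp only [hS, Finset.mem_biUnion, Finset.mem_range, Finset.mem_image]
    constructor
    · rintro ⟨r', hr', q', hq', he⟩
      have h1 := congrArg (fun x => x % p) he
      simp only [Nat.add_mul_mod_self_left, Nat.mod_eq_of_lt hr', Nat.mod_eq_of_lt hr] at h1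
      subst h1
      rwa [← Nat.eq_of_mul_eq_mul_left hp0 (Nat.add_left_cancel he)]
    · exact fun hq => ⟨r, hr, q, hq, rfl⟩
  have hSR : S.val.map (· % p) = R := by
    refine Multiset.ext.2 fun a => ?_
    rcases lt_or_ge a p with ha | ha
    · rw [← card_runner_count, hrun a ha, hQc a ha]
    · rw [Multiset.count_eq_zero.2, Multiset.count_eq_zero.2]
      · rw [← hR0]
        intro hmem
        obtain ⟨x, -, hx⟩ := Multiset.mem_map.1 hmem
        have := Nat.mod_lt x hp0
        omega
      · intro hmem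
        obtain ⟨x, -, hx⟩ := Multiset.mem_map.1 hmem
        have := Nat.mod_lt x hp0
        omega
  have hSw : wt p S = w := by
    rw [wt_eq_sum_psize, Finset.sum_congr rfl fun r hr => by rw [hrun r (Finset.mem_range.1 hr)], hQw]
  have hcard : #S = n := by
    have := congrArg Multiset.card (hSR.trans hR0.symm)
    rw [Multiset.card_map, Multiset.card_map] at this
    exact this.trans (card_confOf ψ₀)
  have hsum : ∑ x ∈ S, x = n + ∑ i, delta n i := by
    have := sum_add_wt hp0 (hSR.trans hR0.symm)
    rw [hw0, hSw, sum_confOf] at this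
    omega
  let c : Beta n (Fintype.card (Fin n)) := ⟨S.orderEmbOfFin hcard,
    (S.orderEmbOfFin hcard).strictMono, by
      rw [Fintype.card_fin, ← hsum]
      conv_rhs => rw [← Finset.image_orderEmbOfFin_univ S hcard]
      rw [Finset.sum_image fun a _ d _ e => (S.orderEmbOfFin hcard).injective e]⟩
  have hconf : confOf (irrOf c) = S := by
    rw [confOf, betaOf_irrOf]
    exact Finset.image_orderEmbOfFin_univ S hcard
  refine ⟨irrOf c, mem_charsOf_of_res h₀ (by rw [hconf, hSR]), ?_⟩
  rw [hconf]
  exact hrun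

theorem eq_of_psize_le_one (Q : Finset ℕ) (h : psize Q ≤ 1) :
    (psize Q = 0 ∧ Q = Finset.range #Q) ∨ (psize Q = 1 ∧ Q = rowSet (#Q - 1) 1) := by
  induction Q using Finset.induction_on_max with
  | empty => simp [psize]
  | insert a s hlt ih =>
    have ha : a ∉ s := fun hx => (hlt a hx).false
    have hle : #s ≤ a := by
      calc #s ≤ #(Finset.range a) := Finset.card_le_card fun q hq => Finset.mem_range.2 (hlt q hq)
        _ = a := Finset.card_range a
    have hps := psize_insert hlt
    rw [Finset.card_insert_of_notMem ha, Nat.add_sub_cancel, rowSet]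
    rcases ih (by omega) with ⟨h0, hs⟩ | ⟨h1, hs⟩
    · rcases Nat.eq_or_lt_of_le hle with he | hl
      · refine Or.inl ⟨by omega, ?_⟩
        rw [Finset.range_add_one, ← hs, he]
      · refine Or.inr ⟨by omega, ?_⟩
        rw [← hs, show #s + 1 = a by omega]
    · exfalso
      have hc := congrArg Finset.card hs
      rw [card_rowSet] at hc
      have := hlt (#s - 1 + 1) (by
        rw [hs, card_rowSet]; exact Finset.mem_insert.2 (Or.inl (by omega)))
      omega

theorem eq_of_psize {Q Q' : Finset ℕ} (h : psize Q ≤ 1) (hs : psize Q = psize Q') (hc : #Q = #Q') :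
    Q = Q' := by
  rcases eq_of_psize_le_one Q h with ⟨h1, h2⟩ | ⟨h1, h2⟩ <;>
    rcases eq_of_psize_le_one Q' (hs ▸ h) with ⟨h1', h2'⟩ | ⟨h1', h2'⟩
  · rw [h2, h2', hc]
  · omega
  · omega
  · rw [h2, h2', hc]

/-! ### Conjugation in characteristic two -/

theorem runner_one_refl' {L : ℕ} (S : Finset ℕ) :
    runner 2 (refl' (2 * L) S) 1 = refl' L (runner 2 S 0) := by
  haveI : Fact (Nat.Prime 2) := ⟨Nat.prime_two⟩
  ext q
  rw [mem_runner (by omega : 1 < 2), mem_refl', mem_refl', mem_runner (by omega : 0 < 2)]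
  refine ⟨fun ⟨h1, h2⟩ => ⟨by omega, ?_⟩, fun ⟨h1, h2⟩ => ⟨by omega, ?_⟩⟩
  · rwa [show 0 + 2 * (L - 1 - q) = 2 * L - 1 - (1 + 2 * q) by omega]
  · rwa [show 2 * L - 1 - (1 + 2 * q) = 0 + 2 * (L - 1 - q) by omega]

variable (hidx : (alternatingGroup (Fin n)).index = 2)

theorem runner_zero_lt (ψ : IrrCharacter (Equiv.Perm (Fin n))) :
    ∀ q ∈ runner 2 (confOf ψ) 0, q < n := by
  haveI : Fact (Nat.Prime 2) := ⟨Nat.prime_two⟩
  intro q hq
  have := confOf_subset ψ ((mem_runner (by omega : 0 < 2)).1 hq)
  omega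

theorem card_runners_two (ψ : IrrCharacter (Equiv.Perm (Fin n))) :
    #(runner 2 (confOf ψ) 0) + #(runner 2 (confOf ψ) 1) = n := by
  haveI : Fact (Nat.Prime 2) := ⟨Nat.prime_two⟩
  rw [card_runner, card_runner]
  conv_rhs => rw [← card_confOf ψ,
    ← Finset.card_filter_add_card_filter_not (s := confOf ψ) (fun x => x % 2 = 0)]
  congr 1
  exact congrArg Finset.card (Finset.filter_congr fun x _ => by omega)

theorem card_runner_twist (ψ : IrrCharacter (Equiv.Perm (Fin n))) :
    #(runner 2 (confOf (twistSgn (alternatingGroup (Fin n)) hidx ψ)) 1) =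
        #(runner 2 (confOf ψ) 1) ∧
      #(runner 2 (confOf (twistSgn (alternatingGroup (Fin n)) hidx ψ)) 0) =
        #(runner 2 (confOf ψ) 0) := by
  have h1 := card_refl' (runner_zero_lt ψ)
  rw [← runner_one_refl', ← confOf_twist hidx] at h1
  have h2 := card_runners_two ψ
  have h3 := card_runners_two (twistSgn (alternatingGroup (Fin n)) hidx ψ)
  omega

theorem twist_mem_two (hp2 : p = 2) {ψ : IrrCharacter (Equiv.Perm (Fin n))}
    (h : ψ ∈ charsOf n p w R) : twistSgn (alternatingGroup (Fin n)) hidx ψ ∈ charsOf n p w R := by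
  subst hp2
  refine mem_charsOf_of_res h ?_
  rw [← (conf_of_mem h).1]
  refine Multiset.ext.2 fun a => ?_
  obtain ⟨h1, h0⟩ := card_runner_twist hidx ψ
  rcases (show a = 0 ∨ a = 1 ∨ 2 ≤ a by omega) with rfl | rfl | ha
  · rw [← card_runner_count, ← card_runner_count, h0]
  · rw [← card_runner_count, ← card_runner_count, h1]
  · rw [Multiset.count_eq_zero.2, Multiset.count_eq_zero.2] <;>
      · intro hmem
        obtain ⟨x, -, hx⟩ := Multiset.mem_map.1 hmem
        omega

theorem psize_twist (ψ : IrrCharacter (Equiv.Perm (Fin n))) :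
    psize (runner 2 (confOf (twistSgn (alternatingGroup (Fin n)) hidx ψ)) 1) =
        psize (runner 2 (confOf ψ) 0) ∧
      psize (runner 2 (confOf (twistSgn (alternatingGroup (Fin n)) hidx ψ)) 0) =
        psize (runner 2 (confOf ψ) 1) := by
  have h1 : ∀ θ : IrrCharacter (Equiv.Perm (Fin n)),
      psize (runner 2 (confOf (twistSgn (alternatingGroup (Fin n)) hidx θ)) 1) =
        psize (runner 2 (confOf θ) 0) := fun θ => by
    rw [confOf_twist, runner_one_refl', psize_refl' (runner_zero_lt θ)]
  refine ⟨h1 ψ, ?_⟩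
  have := h1 (twistSgn (alternatingGroup (Fin n)) hidx ψ)
  rw [twistSgn_twistSgn] at this
  exact this.symm

theorem psize_eq_of_self {ψ : IrrCharacter (Equiv.Perm (Fin n))}
    (hself : twistSgn (alternatingGroup (Fin n)) hidx ψ = ψ) :
    psize (runner 2 (confOf ψ) 0) = psize (runner 2 (confOf ψ) 1) := by
  have := (psize_twist hidx ψ).1
  rw [hself] at this
  exact this.symm

theorem self_of_psize_le_one {ψ : IrrCharacter (Equiv.Perm (Fin n))}
    (h0 : psize (runner 2 (confOf ψ) 0) ≤ 1)
    (he : psize (runner 2 (confOf ψ) 0) = psize (runner 2 (confOf ψ) 1)) :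
    twistSgn (alternatingGroup (Fin n)) hidx ψ = ψ := by
  haveI : Fact (Nat.Prime 2) := ⟨Nat.prime_two⟩
  obtain ⟨e1, e0⟩ := psize_twist hidx ψ
  obtain ⟨c1, c0⟩ := card_runner_twist hidx ψ
  refine confOf_injective (eq_of_runner_eq (p := 2) fun r hr => ?_)
  rcases (show r = 0 ∨ r = 1 by omega) with rfl | rfl
  · exact eq_of_psize (by omega) (by omega) c0
  · exact eq_of_psize (by omega) (by omega) c1

/-- Two long rows, one on each runner, are not self-conjugate. -/
theorem not_self_of_rows {ψ : IrrCharacter (Equiv.Perm (Fin n))} {j₀ j₁ a : ℕ} (ha : 2 ≤ a)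
    (h0 : runner 2 (confOf ψ) 0 = rowSet j₀ a) (h1 : runner 2 (confOf ψ) 1 = rowSet j₁ a) :
    twistSgn (alternatingGroup (Fin n)) hidx ψ ≠ ψ := by
  intro hself
  have hn := card_runners_two ψ
  rw [h0, h1, card_rowSet, card_rowSet] at hn
  have h2 := runner_one_refl' (L := n) (confOf ψ)
  rw [← confOf_twist hidx, hself, h1, h0] at h2
  have hmem : j₁ + a ∈ refl' n (rowSet j₀ a) := h2 ▸ Finset.mem_insert_self _ _
  obtain ⟨hlt, hnot⟩ := mem_refl'.1 hmem
  refine hnot (Finset.mem_insert.2 (Or.inr (Finset.mem_range.2 ?_)))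
  omega

end H85.AltHeight
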