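import Cfsg.Agent.H18.AltBlock.Cover

/-!
# Every character of a covering block lies over the covered block up to conjugation
-/

set_option autoImplicit false
set_option linter.unusedSectionVars false
set_option linter.style.haveILetI false

open Cfsg Finset MonoidAlgebra H18.AltBlock

namespace H85.AltHeight

universe u

variable {G : Type u} [Group G] [Fintype G] (H : Subgroup G) [hN : H.Normal] [Fintype H]

theorem exists_mem_same_degree (hidx : H.index = 2) {M : Ideal AlgInt} [M.IsPrime]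
    {B : Set (IrrCharacter H)} (hB : IsPBlock M B) {χ₀ : IrrCharacter H}
    (hχ₀B : χ₀ ∈ B) {ψ₀ ψ : IrrCharacter G}
    (hχ₀ : classInner (fun h : H => (ψ₀ : G → ℂ) h) (χ₀ : H → ℂ) ≠ 0)
    (hs : SameBlock M (ψ₀ : G → ℂ) (ψ : G → ℂ)) :
    ∃ χ ∈ B, ∃ χ' : IrrCharacter H,
      classInner (fun h : H => (ψ : G → ℂ) h) (χ' : H → ℂ) ≠ 0 ∧
      H12.degree (χ : H → ℂ) = H12.degree (χ' : H → ℂ) := by
  classical
  obtain ⟨τ, hτ⟩ : ∃ τ : G, τ ∉ H := by
    by_contra h
    push Not at h
    rw [Subgroup.eq_top_iff' H |>.2 h, Subgroup.index_top] at hidx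
    omega
  set e : H ≃* H := MulAut.conjNormal τ
  obtain ⟨hB', hcoef⟩ := isPBlock_image H e hB
  set B' := H12.irrCongr e '' B with hB'def
  have hred : ∀ h : H, (H20.eRed M B').coeff h = (H20.eRed M B).coeff (e h) := fun h => by
    rw [H20.coeff_eRed, H20.coeff_eRed, hcoef]
  have hinner : ∀ (C : Set (IrrCharacter H)) (c h : H),
      (H20.eRed M C).coeff (c * h * c⁻¹) = (H20.eRed M C).coeff h := fun C c h => H20.isCl_eRed C h c
  set z : MonoidAlgebra (H20.k M) H :=
    if B' = B then H20.eRed M B else H20.eRed M B + H20.eRed M B' with hz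
  have hztau : ∀ n : H, z.coeff (e n) = z.coeff n := by
    intro n
    have h2 : (H20.eRed M B).coeff (e (e n)) = (H20.eRed M B).coeff n := by
      have hmem : τ * τ ∈ H := by
        rw [← pow_two]; exact Subgroup.sq_mem_of_index_two hidx τ
      rw [← hinner B ⟨τ * τ, hmem⟩ n]
      congr 1
      refine Subtype.ext ?_
      show τ * (τ * n * τ⁻¹) * τ⁻¹ = τ * τ * n * (τ * τ)⁻¹
      group
    simp only [hz]
    split_ifs with h
    · conv_rhs => rw [← h]
      rw [hred]
    · simp only [MonoidAlgebra.coeff_add, Finsupp.add_apply, hred, h2]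
      rw [add_comm]
  have hzinner : ∀ c n : H, z.coeff (c * n * c⁻¹) = z.coeff n := fun c n => by
    simp only [hz]
    split_ifs <;> simp [hinner]
  have hzinv : ∀ (c : G) (n : H), z.coeff ⟨c * n * c⁻¹, hN.conj_mem n n.2 c⟩ = z.coeff n := by
    intro c n
    by_cases hc : c ∈ H
    · exact hzinner ⟨c, hc⟩ n
    · have hc' : c * τ⁻¹ ∈ H := by
        rw [Subgroup.mul_mem_iff_of_index_two hidx, inv_mem_iff]
        exact ⟨fun h => absurd h hc, fun h => absurd h hτ⟩
      have h := hzinner ⟨c * τ⁻¹, hc'⟩ (e n)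
      rw [hztau] at h
      rw [← h]
      congr 1
      refine Subtype.ext ?_
      show c * n * c⁻¹ = c * τ⁻¹ * (τ * n * τ⁻¹) * (c * τ⁻¹)⁻¹
      group
  obtain ⟨χ', hχ'⟩ := H13.exists_constituent H (H12.isCharacter_irr ψ) fun h0 =>
    H12.irr_apply_one_ne_zero ψ (congrFun h0 1)
  have hlam0 : H20.lam M χ₀ z = 1 := by
    simp only [hz]
    split_ifs with h
    · rw [H20.lam_eRed hB, if_pos hχ₀B]
    · rw [H20.lam_add, H20.lam_eRed hB, if_pos hχ₀B, H20.lam_eRed hB', if_neg fun h' =>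
        h (H20.block_eq_of_mem hB' hB h' hχ₀B), add_zero]
  have hlam : H20.lam M χ' z ≠ 0 := by
    obtain ⟨-, h1⟩ := lam_extend H hχ₀ z hzinv (M := M)
    obtain ⟨-, h2⟩ := lam_extend H hχ' z hzinv (M := M)
    rw [← h2, ← H20.lam_eq_of_sameBlock hs, h1, hlam0]
    exact one_ne_zero
  have hor : χ' ∈ B ∨ χ' ∈ B' := by
    by_contra hno
    rw [not_or] at hno
    apply hlam
    simp only [hz]
    split_ifs with h
    · rw [H20.lam_eRed hB, if_neg hno.1]
    · rw [H20.lam_add, H20.lam_eRed hB, if_neg hno.1, H20.lam_eRed hB', if_neg hno.2, add_zero]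
  rcases hor with h | h
  · exact ⟨χ', h, χ', hχ', rfl⟩
  · obtain ⟨χ, hχ, rfl⟩ := h
    refine ⟨χ, hχ, _, hχ', ?_⟩
    unfold H12.degree
    rw [H12.irrCongr_apply, map_one]

end H85.AltHeight
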