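import Cfsg.Agent.H85.AltHeight.Valuations
import Cfsg.Agent.H18.AltBlock.Support

/-!
# The defect group of a block of an alternating group
-/

set_option autoImplicit false
set_option linter.unusedSectionVars false
set_option linter.style.haveILetI false

open Cfsg Finset H18.SymBlock H18.AltBlock
open scoped Nat

namespace H85.AltHeight

variable {n p : ℕ} [hp : Fact p.Prime] (hidx : (alternatingGroup (Fin n)).index = 2)
  {M : Ideal AlgInt} [M.IsPrime] (hM : IsPModular p M)
  {B : Set (IrrCharacter (alternatingGroup (Fin n)))} (hB : IsPBlock M B)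

include hidx hM hB in
/-- Every `p`-group of even permutations of the cycles embeds in a defect group. -/
theorem exists_embedding_cycles {D : Subgroup (alternatingGroup (Fin n))}
    (hD : IsDefectGroup p M B D) {χ₀ : IrrCharacter (alternatingGroup (Fin n))} (hχ₀ : χ₀ ∈ B)
    {ψ₀ : IrrCharacter (Equiv.Perm (Fin n))}
    (hψ₀ : classInner (fun h : alternatingGroup (Fin n) => (ψ₀ : Equiv.Perm (Fin n) → ℂ) h)
      (χ₀ : alternatingGroup (Fin n) → ℂ) ≠ 0)
    {A : Subgroup (Equiv.Perm (Fin (weight p (betaOf ψ₀ : Fin n → ℕ)) × Fin p))} (hA : IsPGroup p A)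
    (hsgn : ∀ a ∈ A, Equiv.Perm.sign a = 1) :
    ∃ f : A →* D, Function.Injective f := by
  classical
  haveI := Subgroup.normal_of_index_eq_two hidx
  obtain ⟨g, m, e, hg, hcomm⟩ := exists_class_fixing hM (H20.isPBlock_blockOf (M := M) ψ₀)
    (b := betaOf ψ₀) (by rw [irrOf_betaOf]; exact H20.mem_blockOf_self ψ₀)
  let Φ : Equiv.Perm (Fin (weight p (betaOf ψ₀ : Fin n → ℕ)) × Fin p) →* Equiv.Perm (Fin n) :=
    (e.permCongrHom.toMonoidHom.comp (Equiv.Perm.sumCongrHom (Fin (weight p (betaOf ψ₀ : Fin n → ℕ)) × Fin p) (Fin m))).comp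
      (MonoidHom.inl _ _)
  have hΦ : ∀ σ, Φ σ = e.permCongr (Equiv.sumCongr σ 1) := fun _ => rfl
  have hΦinj : Function.Injective Φ := e.permCongrHom.injective.comp
    (Equiv.Perm.sumCongrHom_injective.comp fun a b h => congrArg Prod.fst h)
  obtain ⟨f, hf⟩ := exists_embedding (alternatingGroup (Fin n)) hidx hM hB hD hχ₀ hψ₀ hg
    (E := A.map Φ) (hA.map Φ)
    (by
      rintro _ ⟨a, ha, rfl⟩
      rw [Equiv.Perm.mem_alternatingGroup, hΦ, Equiv.Perm.sign_permCongr, Equiv.Perm.sign_sumCongr,
        hsgn a ha, map_one, mul_one])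
    (by
      rintro _ ⟨a, -, rfl⟩
      rw [hΦ]
      exact (hcomm a).symm)
  exact ⟨f.comp (A.equivMapOfInjective Φ hΦinj).toMonoidHom,
    hf.comp (A.equivMapOfInjective Φ hΦinj).injective⟩

theorem blockDefect_le {G : Type} [Group G] [Fintype G] {B : Set (IrrCharacter G)}
    (hne : B.Nonempty) {k : ℕ}
    (h : ∀ χ ∈ B, padicValNat p (Nat.card G) ≤ padicValNat p (H12.degree (χ : G → ℂ)) + k) :
    blockDefect p B ≤ k := by
  obtain ⟨χ, hχ, he⟩ := Nat.sInf_mem (hne.image
    (fun χ : IrrCharacter G => (charDegree (χ : G → ℂ)).factorization p))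
  rw [blockDefect, ← he, Nat.factorization_def _ hp.out]
  simp only [Nat.factorization_def _ hp.out]
  have := h χ hχ
  rw [show H12.degree (χ : G → ℂ) = charDegree (χ : G → ℂ) from rfl] at this
  omega

/-- An injection of a group that is large enough identifies the defect group. -/
theorem exists_mulEquiv {G : Type} [Group G] [Fintype G] {M : Ideal AlgInt} [M.IsPrime]
    (hM : IsPModular p M) {B : Set (IrrCharacter G)} (hB : IsPBlock M B) {D : Subgroup G}
    (hD : IsDefectGroup p M B D) {A : Type} [Group A] (f : A →* D) (hf : Function.Injective f)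
    {k : ℕ} (hA : Nat.card A = p ^ k) (hle : blockDefect p B ≤ k) :
    Nonempty (A ≃* D) ∧ blockDefect p B = k := by
  have hcard := H20.card_defectGroup hM hB hD
  have h1 := Nat.card_le_card_of_injective f hf
  rw [hA, hcard] at h1
  have h2 : blockDefect p B = k :=
    le_antisymm hle ((Nat.pow_le_pow_iff_right hp.out.one_lt).1 h1)
  exact ⟨⟨MulEquiv.ofBijective f (hf.bijective_of_nat_card_le (by rw [hA, hcard, h2]))⟩, h2⟩

/-- Heights from the defect. -/
theorem blockHeight_add {G : Type} [Group G] [Fintype G] {B : Set (IrrCharacter G)}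
    (χ : IrrCharacter G) (hχ : χ ∈ B)
    (hpos : sInf ((fun ψ : IrrCharacter G => (charDegree (ψ : G → ℂ)).factorization p) '' B) ≤
      padicValNat p (Nat.card G)) :
    blockHeight p B (χ : G → ℂ) + padicValNat p (Nat.card G) =
      padicValNat p (H12.degree (χ : G → ℂ)) + blockDefect p B := by
  have h1 : sInf ((fun ψ : IrrCharacter G => (charDegree (ψ : G → ℂ)).factorization p) '' B) ≤
      (charDegree (χ : G → ℂ)).factorization p := Nat.sInf_le ⟨χ, hχ, rfl⟩
  simp only [blockHeight, blockDefect, Nat.factorization_def _ hp.out] at *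
  rw [show H12.degree (χ : G → ℂ) = charDegree (χ : G → ℂ) from rfl]
  omega

end H85.AltHeight
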