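import Cfsg.Agent.H85.AltHeight.Runners
import Cfsg.Agent.H18.SymBlock.Content
import Cfsg.Agent.H13.Linear

/-!
# The valuation of the degree of a character of a symmetric group
-/

set_option autoImplicit false
set_option linter.unusedSectionVars false

open Cfsg Finset H18.SymBlock
open scoped Nat

namespace H85.AltHeight

variable {N : ℕ}

theorem det_vandermonde_eq {b : Fin N → ℕ} (hb : StrictMono b) :
    (Matrix.vandermonde fun i => (b i : ℂ)).det = (dif (Finset.univ.image b) : ℂ) := by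
  rw [Matrix.det_vandermonde, dif, Finset.prod_image fun a _ c _ h => hb.injective h]
  have h : ∀ j, lo (Finset.univ.image b) (b j) = (Finset.Iio j).image b := by
    intro j
    ext y
    simp only [lo, Finset.mem_filter, Finset.mem_image, Finset.mem_univ, true_and, Finset.mem_Iio]
    exact ⟨fun ⟨⟨i, hi⟩, hlt⟩ => ⟨i, hb.lt_iff_lt.1 (hi ▸ hlt), hi⟩,
      fun ⟨i, hlt, hi⟩ => ⟨⟨i, hi⟩, hi ▸ hb hlt⟩⟩
  simp only [h, Finset.prod_image fun a _ c _ hh => hb.injective hh]
  push_cast
  rw [Finset.prod_comm' (t' := Finset.univ) (s' := fun j => Finset.Iio j)]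
  · refine Finset.prod_congr rfl fun j _ => Finset.prod_congr rfl fun i hi => ?_
    rw [Nat.cast_sub (hb (Finset.mem_Iio.1 hi)).le]
  · simp

theorem dif_image_val : dif (Finset.univ.image fun i : Fin N => (i : ℕ)) = ∏ i : Fin N, (i : ℕ)! := by
  have h : (Finset.univ.image fun i : Fin N => (i : ℕ)) = Finset.range N := by
    ext x
    simp only [Finset.mem_image, Finset.mem_univ, true_and, Finset.mem_range]
    exact ⟨fun ⟨i, hi⟩ => hi ▸ i.2, fun hx => ⟨⟨x, hx⟩, rfl⟩⟩
  rw [h, dif_range, fac, Fin.prod_univ_eq_prod_range fun i => i !]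

/-- The degree formula. -/
theorem degree_mul_fac {α : Type} [Fintype α] [DecidableEq α] (b : Beta N (Fintype.card α)) :
    H12.degree (irrOf b : Equiv.Perm α → ℂ) * fac (Finset.univ.image (b : Fin N → ℕ)) =
      (Fintype.card α)! * dif (Finset.univ.image (b : Fin N → ℕ)) := by
  obtain ⟨ε, hε, hb⟩ := irrOf_spec b
  set S := Finset.univ.image (b : Fin N → ℕ)
  have h1 := H12.irr_apply_one (irrOf b)
  rw [hb, Pi.smul_apply, smul_eq_mul, chiS_one b.2] at h1
  have hF : (fac S : ℂ) = ∏ i, ((((b : Fin N → ℕ) i)! : ℕ) : ℂ) := by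
    rw [fac, Finset.prod_image fun a _ c _ h => b.2.1.injective h, Nat.cast_prod]
  have hd : (Matrix.vandermonde fun i : Fin N => ((i : ℕ) : ℂ)).det = ∏ i : Fin N, (((i : ℕ)! : ℕ) : ℂ) := by
    rw [det_vandermonde_eq (b := fun i : Fin N => (i : ℕ)) fun _ _ h => h, dif_image_val, Nat.cast_prod]
  have hne : ∏ i : Fin N, (((i : ℕ)! : ℕ) : ℂ) ≠ 0 :=
    Finset.prod_ne_zero_iff.2 fun i _ => by exact_mod_cast Nat.factorial_ne_zero _
  have hF0 : (fac S : ℂ) ≠ 0 := by exact_mod_cast fac_ne_zero S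
  rw [degConst, det_vandermonde_eq b.2.1, hd, Finset.prod_div_distrib, ← hF] at h1
  have h2 : ε * ((((Fintype.card α)! : ℕ) : ℂ) * (dif S : ℂ)) =
      (H12.degree (irrOf b : Equiv.Perm α → ℂ) : ℂ) * (fac S : ℂ) := by
    rw [hb, ← h1]
    field_simp
    rfl
  have h3 : ((((Fintype.card α)! * dif S : ℕ) : ℂ)) =
      ((H12.degree (irrOf b : Equiv.Perm α → ℂ) * fac S : ℕ) : ℂ) ∨
      ((((Fintype.card α)! * dif S + H12.degree (irrOf b : Equiv.Perm α → ℂ) * fac S : ℕ)) : ℂ) = 0 := by
    push_cast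
    rcases hε with rfl | rfl
    · left; linear_combination h2
    · right; linear_combination -h2
  rcases h3 with h | h
  · exact (Nat.cast_inj.1 h).symm
  · have := Nat.cast_eq_zero.1 h
    have h4 : 0 < (Fintype.card α)! * dif S :=
      Nat.mul_pos (Nat.factorial_pos _) (Nat.pos_of_ne_zero (dif_ne_zero S))
    omega

variable {p : ℕ} [hp : Fact p.Prime]

/-- The valuation of a degree. -/
theorem val_degree_add {α : Type} [Fintype α] [DecidableEq α] (b : Beta N (Fintype.card α)) :
    padicValNat p (H12.degree (irrOf b : Equiv.Perm α → ℂ)) +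
      hval p (Finset.univ.image (b : Fin N → ℕ)) = padicValNat p (Fintype.card α)! := by
  have h := congrArg (padicValNat p) (degree_mul_fac b)
  rw [padicValNat.mul (H12.irr_degree_pos _).ne' (fac_ne_zero _),
    padicValNat.mul (Nat.factorial_ne_zero _) (dif_ne_zero _)] at h
  have := hval_add (p := p) (Finset.univ.image (b : Fin N → ℕ))
  omega

theorem sum_delta_eq (N : ℕ) : ∑ i, delta N i = ∑ i ∈ Finset.range N, i :=
  Fin.sum_univ_eq_sum_range (fun i => i) N

theorem exists_beta (Q : Finset ℕ) :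
    ∃ b : Beta #Q (Fintype.card (Fin (psize Q))), Finset.univ.image (b : Fin #Q → ℕ) = Q := by
  refine ⟨⟨Q.orderEmbOfFin rfl, (Q.orderEmbOfFin rfl).strictMono, ?_⟩, Finset.image_orderEmbOfFin_univ Q rfl⟩
  rw [Fintype.card_fin, sum_delta_eq, psize_add_sum_range]
  conv_rhs => rw [← Finset.image_orderEmbOfFin_univ Q rfl]
  rw [Finset.sum_image fun a _ c _ h => (Q.orderEmbOfFin rfl).injective h]

theorem hval_le (Q : Finset ℕ) : hval p Q ≤ padicValNat p (psize Q)! := by
  obtain ⟨b, hb⟩ := exists_beta Q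
  have h := val_degree_add (p := p) b
  rw [hb, Fintype.card_fin] at h
  omega

/-- A partition of two is one row or one column. -/
theorem hval_of_psize_two {Q : Finset ℕ} (h : psize Q = 2) : hval p Q = padicValNat p 2 := by
  obtain ⟨b, hb⟩ := exists_beta Q
  have h1 := val_degree_add (p := p) b
  have hc : ∀ u v : Equiv.Perm (Fin (psize Q)), u * v = v * u := by rw [h]; decide
  have hd : H12.degree (irrOf b : Equiv.Perm (Fin (psize Q)) → ℂ) = 1 := by
    exact_mod_cast (H12.irr_apply_one _).symm.trans (H13.degree_one_of_commutative hc (irrOf b))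
  rw [hb, Fintype.card_fin, hd, h, padicValNat_one_right,
    zero_add, Nat.factorial_two] at h1
  exact h1

theorem sum_val_factorial_le {ι : Type*} (s : Finset ι) (m : ι → ℕ) :
    ∑ i ∈ s, padicValNat p (m i)! ≤ padicValNat p (∑ i ∈ s, m i)! := by
  rw [← val_prod _ _ fun i _ => Nat.factorial_ne_zero _]
  exact (padicValNat_dvd_iff_le (Nat.factorial_ne_zero _)).1
    (dvd_trans pow_padicValNat_dvd (Nat.prod_factorial_dvd_factorial_sum s m))

theorem sum_hval_le (S : Finset ℕ) :
    ∑ r ∈ Finset.range p, hval p (runner p S r) ≤ padicValNat p (H18.SymBlock.wt p S)! := by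
  refine le_trans (Finset.sum_le_sum fun r _ => hval_le _) ?_
  rw [wt_eq_sum_psize]
  exact sum_val_factorial_le _ _

end H85.AltHeight
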