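import Cfsg.Agent.H18.AltBlock.Support
import Cfsg.Agent.H18.SymBlock.Core
import Cfsg.Agent.H20.CentralClass
import Cfsg.Agent.H20.Induced

/-!
# The translations of `w` cycles of length `p` and their centraliser
-/

set_option autoImplicit false
set_option linter.unusedSectionVars false
set_option linter.style.haveILetI false

open Cfsg Finset H18.SymBlock H18.AltBlock MonoidAlgebra

namespace H85.AltHeight

/-! ### Orbit counts -/

theorem pow_numOrb_eq {α : Type} [Fintype α] [DecidableEq α] (T : ℕ) (g : Equiv.Perm α) :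
    ((T ^ numOrb g : ℕ) : ℤ) = MvPolynomial.eval (fun _ => (1 : ℤ)) (colSum T ℤ g) := by
  rw [colSum, map_sum, ← card_fixed_colourings]
  simp

theorem numOrb_permCongr {α β : Type} [Fintype α] [DecidableEq α] [Fintype β] [DecidableEq β]
    (e : α ≃ β) (g : Equiv.Perm α) : numOrb (e.permCongr g) = numOrb g := by
  refine Nat.pow_right_injective le_rfl (?_ : 2 ^ numOrb (e.permCongr g) = 2 ^ numOrb g)
  have h1 := pow_numOrb_eq 2 (e.permCongr g)
  rw [colSum_congr, ← pow_numOrb_eq 2 g] at h1
  exact_mod_cast h1

theorem numOrb_sumCongr {α β : Type} [Fintype α] [DecidableEq α] [Fintype β] [DecidableEq β]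
    (g : Equiv.Perm α) (h : Equiv.Perm β) :
    numOrb (Equiv.sumCongr g h) = numOrb g + numOrb h := by
  refine Nat.pow_right_injective le_rfl
    (?_ : 2 ^ numOrb (Equiv.sumCongr g h) = 2 ^ (numOrb g + numOrb h))
  have h1 := pow_numOrb_eq 2 (Equiv.sumCongr g h)
  rw [colSum_sumCongr, map_mul, ← pow_numOrb_eq, ← pow_numOrb_eq] at h1
  rw [pow_add]
  exact_mod_cast h1

theorem numOrb_prodCongrRight {ι V : Type} [Fintype ι] [DecidableEq ι] [Fintype V] [DecidableEq V]
    (f : ι → Equiv.Perm V) :
    numOrb (Equiv.prodCongrRight f) = ∑ i, numOrb (f i) := by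
  refine Nat.pow_right_injective le_rfl
    (?_ : 2 ^ numOrb (Equiv.prodCongrRight f) = 2 ^ ∑ i, numOrb (f i))
  rw [← Finset.prod_pow_eq_pow_sum]
  simp only [← card_fixed_colourings, ← Fintype.card_piFinset]
  refine Finset.card_bij' (fun c _ => fun i v => c (i, v)) (fun d _ => fun x => d x.1 x.2)
    (fun c hc => ?_) (fun d hd => ?_) (fun c _ => rfl) (fun d _ => rfl)
  · simp only [Finset.mem_filter, Finset.mem_univ, true_and, funext_iff, Function.comp_apply] at hc
    simp only [Fintype.mem_piFinset, Finset.mem_filter, Finset.mem_univ, true_and, funext_iff,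
      Function.comp_apply]
    exact fun i v => hc (i, v)
  · simp only [Fintype.mem_piFinset, Finset.mem_filter, Finset.mem_univ, true_and, funext_iff,
      Function.comp_apply] at hd
    simp only [Finset.mem_filter, Finset.mem_univ, true_and, funext_iff, Function.comp_apply]
    exact fun x => hd x.1 x.2

theorem numOrb_addRight {p : ℕ} [hp : Fact p.Prime] [NeZero p] (v : Fin p) :
    numOrb (Equiv.addRight v) = if v = 0 then p else 1 := by
  split_ifs with hv
  · subst hv
    rw [show Equiv.addRight (0 : Fin p) = 1 from Equiv.ext fun x => by simp,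
      (numOrb_eq_iff _).2 rfl, Fintype.card_fin]
  · rw [numOrb, Nat.card_eq_one_iff_unique]
    refine ⟨⟨fun x y => Quotient.inductionOn₂ x y fun a b => Quotient.sound ?_⟩, inferInstance⟩
    have hmem : b - a ∈ AddSubgroup.zmultiples v :=
      mem_zmultiples_of_prime_card (p := p) (Nat.card_fin p) hv
    obtain ⟨k, hk⟩ := AddSubgroup.mem_zmultiples_iff.1 hmem
    refine ⟨k, ?_⟩
    show (Equiv.addRight v ^ k) a = b
    let φ : Multiplicative (Fin p) →* Equiv.Perm (Fin p) :=
      { toFun := fun u => Equiv.addRight (Multiplicative.toAdd u)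
        map_one' := Equiv.ext fun x => by simp
        map_mul' := fun u u' => Equiv.ext fun x => by simp [add_assoc, add_comm (Multiplicative.toAdd u')] }
    show (φ (Multiplicative.ofAdd v) ^ k) a = b
    rw [← map_zpow, ← ofAdd_zsmul, hk]
    show a + (b - a) = b
    rw [add_sub_cancel]

variable {p w m n : ℕ} [NeZero p]

/-- Translations of the cycles together with a permutation of the fixed points. -/
noncomputable def jHom (e : ((Fin w × Fin p) ⊕ Fin m) ≃ Fin n) :
    Multiplicative (Fin w → Fin p) × Equiv.Perm (Fin m) →* Equiv.Perm (Fin n) :=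
  e.permCongrHom.toMonoidHom.comp ((Equiv.Perm.sumCongrHom (Fin w × Fin p) (Fin m)).comp
    ((shiftHom w (Fin p)).prodMap (MonoidHom.id _)))

variable (e : ((Fin w × Fin p) ⊕ Fin m) ≃ Fin n)

theorem jHom_apply (x : Multiplicative (Fin w → Fin p) × Equiv.Perm (Fin m)) :
    jHom e x = e.permCongr (Equiv.sumCongr (shiftHom w (Fin p) x.1) x.2) := rfl

theorem jHom_injective : Function.Injective (jHom e) :=
  e.permCongrHom.injective.comp (Equiv.Perm.sumCongrHom_injective.comp fun x y h => by
    have h' : (shiftHom w (Fin p) x.1, x.2) = (shiftHom w (Fin p) y.1, y.2) := h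
    rw [Prod.mk.injEq] at h'
    exact Prod.ext (shiftHom_injective _ _ h'.1) h'.2)

/-- The translations. -/
noncomputable def transSub : Subgroup (Equiv.Perm (Fin n)) :=
  ((jHom e).comp (MonoidHom.inl _ _)).range

theorem numOrb_jHom [Fact p.Prime] (x : Multiplicative (Fin w → Fin p) × Equiv.Perm (Fin m)) :
    numOrb (jHom e x) =
      (∑ i, if Multiplicative.toAdd x.1 i = 0 then p else 1) + numOrb x.2 := by
  rw [jHom_apply, numOrb_permCongr, numOrb_sumCongr]
  congr 1
  show numOrb (Equiv.prodCongrRight fun i => Equiv.addRight (Multiplicative.toAdd x.1 i)) = _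
  rw [numOrb_prodCongrRight]
  exact Finset.sum_congr rfl fun i _ => numOrb_addRight _

theorem isPGroup_transSub [Fact p.Prime] : IsPGroup p (transSub e) := by
  rintro ⟨_, a, rfl⟩
  refine ⟨1, Subtype.ext ?_⟩
  rw [SubmonoidClass.coe_pow, pow_one, OneMemClass.coe_one]
  show ((jHom e).comp (MonoidHom.inl _ _)) a ^ p = 1
  rw [← map_pow, show a ^ p = 1 from ?_, map_one]
  refine Multiplicative.toAdd.injective (funext fun i => ?_)
  rw [toAdd_pow, Pi.smul_apply, toAdd_one, Pi.zero_apply]
  have h := card_nsmul_eq_zero' (x := Multiplicative.toAdd a i)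
  rwa [Nat.card_fin] at h

theorem transSub_le : transSub e ≤ (jHom e).range := by
  rintro _ ⟨a, rfl⟩
  exact ⟨_, rfl⟩

theorem range_le_centralizer :
    (jHom e).range ≤ Subgroup.centralizer (transSub e : Set (Equiv.Perm (Fin n))) := by
  rintro _ ⟨x, rfl⟩ _ ⟨a, rfl⟩
  rw [MonoidHom.comp_apply, ← map_mul, ← map_mul]
  congr 1
  exact Prod.ext (mul_comm _ _) (by simp)

theorem range_le_normalizer :
    (jHom e).range ≤ Subgroup.normalizer (transSub e : Set (Equiv.Perm (Fin n))) := by
  intro x hx
  rw [Subgroup.mem_normalizer_iff]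
  intro u
  have h := range_le_centralizer e hx
  constructor
  · intro hu
    rw [← h u hu, mul_inv_cancel_right]
    exact hu
  · intro hu
    have h2 := h _ hu
    rw [inv_mul_cancel_right] at h2
    rwa [mul_left_cancel h2]

theorem centralizer_le_range [Fact p.Prime] :
    Subgroup.centralizer (transSub e : Set (Equiv.Perm (Fin n))) ≤ (jHom e).range := by
  intro x hx
  have hp2 := (Fact.out (p := p.Prime)).two_le
  set y : Equiv.Perm ((Fin w × Fin p) ⊕ Fin m) := e.symm.permCongr x with hy
  let d : Fin w → Fin p → Equiv.Perm ((Fin w × Fin p) ⊕ Fin m) := fun i c =>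
    Equiv.sumCongr (shiftHom w (Fin p) (Multiplicative.ofAdd (Pi.single i c))) 1
  have hd : ∀ i c i' t, d i c (Sum.inl (i', t)) = Sum.inl (i', t + if i' = i then c else 0) := by
    intro i c i' t
    simp [d, shiftHom, Pi.single_apply]
  have hd' : ∀ i c r, d i c (Sum.inr r) = Sum.inr r := fun i c r => rfl
  have hcomm : ∀ i c z, y (d i c z) = d i c (y z) := by
    intro i c z
    have h := hx _ ⟨Multiplicative.ofAdd (Pi.single i c), rfl⟩
    have h' := congrArg (fun g : Equiv.Perm (Fin n) => e.symm (g (e z))) h
    simp only [MonoidHom.comp_apply, MonoidHom.inl_apply, jHom_apply, Equiv.Perm.mul_apply,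
      Equiv.permCongr_apply, Equiv.symm_apply_apply] at h'
    simp only [hy, Equiv.permCongr_apply, Equiv.symm_symm]
    exact h'.symm
  have hone : (1 : Fin p) ≠ 0 := by
    haveI : Fact (1 < p) := ⟨hp2⟩
    intro h
    have := congrArg Fin.val h
    simp [Nat.mod_eq_of_lt (show 1 < p from hp2)] at this
  have hinl : ∀ i t, ∃ t', y (Sum.inl (i, t)) = Sum.inl (i, t') := by
    intro i t
    have hmove : y (Sum.inl (i, t + 1)) = d i 1 (y (Sum.inl (i, t))) := by
      rw [← hcomm, hd, if_pos rfl]
    rcases hz : y (Sum.inl (i, t)) with ⟨i', t'⟩ | r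
    · by_cases hii : i' = i
      · exact ⟨t', by rw [hii]⟩
      · exfalso
        rw [hz, hd, if_neg hii, add_zero, ← hz] at hmove
        have := y.injective hmove
        simp only [Sum.inl.injEq, Prod.mk.injEq, true_and] at this
        exact hone (add_left_cancel (this.trans (add_zero t).symm))
    · exfalso
      rw [hz, hd', ← hz] at hmove
      have := y.injective hmove
      simp only [Sum.inl.injEq, Prod.mk.injEq, true_and] at this
      exact hone (add_left_cancel (this.trans (add_zero t).symm))
  choose f hf using hinl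
  have hinr : ∀ r, ∃ r', y (Sum.inr r) = Sum.inr r' := by
    intro r
    rcases hz : y (Sum.inr r) with ⟨i, t⟩ | r'
    · exfalso
      have h := hcomm i 1 (Sum.inr r)
      rw [hd', hz, hd, if_pos rfl] at h
      simp only [Sum.inl.injEq, Prod.mk.injEq, true_and] at h
      exact hone (add_left_cancel (h.symm.trans (add_zero t).symm))
    · exact ⟨r', rfl⟩
  choose q hq using hinr
  have hf' : ∀ i t, f i t = t + f i 0 := by
    intro i t
    have h := hcomm i t (Sum.inl (i, 0))
    rw [hd, if_pos rfl, zero_add, hf, hf, hd, if_pos rfl] at h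
    simp only [Sum.inl.injEq, Prod.mk.injEq, true_and] at h
    rw [h, add_comm]
  have hqb : Function.Bijective q := Finite.injective_iff_bijective.1 fun a b h =>
    Sum.inr_injective (y.injective (by rw [hq, hq, h]))
  refine ⟨(Multiplicative.ofAdd fun i => f i 0, Equiv.ofBijective q hqb), ?_⟩
  refine Equiv.ext fun k => ?_
  obtain ⟨z, rfl⟩ := e.surjective k
  have hxz : x (e z) = e (y z) := by simp [hy, Equiv.permCongr_apply]
  rw [jHom_apply, Equiv.permCongr_apply, Equiv.symm_apply_apply, hxz]
  congr 1
  rcases z with ⟨i, t⟩ | r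
  · rw [hf, hf' i t]
    simp [shiftHom]
  · rw [hq]
    rfl

/-- The projection onto the permutations of the fixed points. -/
noncomputable def projHom : (jHom e).range →* Equiv.Perm (Fin m) :=
  (MonoidHom.snd _ _).comp (MonoidHom.ofInjective (jHom_injective e)).symm.toMonoidHom

theorem projHom_apply (x : Multiplicative (Fin w → Fin p) × Equiv.Perm (Fin m)) :
    projHom e (MonoidHom.ofInjective (jHom_injective e) x) = x.2 := by
  simp [projHom]

theorem projHom_surjective : Function.Surjective (projHom e) :=
  fun y => ⟨MonoidHom.ofInjective (jHom_injective e) (1, y), projHom_apply e _⟩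

/-- The functional: keep the centraliser of the translations and forget them. -/
noncomputable def locMap {R : Type*} [CommRing R] (a : MonoidAlgebra R (Equiv.Perm (Fin n))) :
    MonoidAlgebra R (Equiv.Perm (Fin m)) :=
  MonoidAlgebra.mapDomainRingHom R (projHom e) (H20.resAlg (jHom e).range a)

theorem coeff_locMap {R : Type*} [CommRing R] (a : MonoidAlgebra R (Equiv.Perm (Fin n)))
    (y : Equiv.Perm (Fin m)) :
    (locMap e a).coeff y = ∑ v : Multiplicative (Fin w → Fin p), a.coeff (jHom e (v, y)) := by
  classical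
  simp only [locMap, MonoidAlgebra.mapDomainRingHom_apply, MonoidAlgebra.coeff_mapDomain,
    Finsupp.mapDomain]
  rw [Finsupp.sum_fintype _ _ (fun _ => by simp), Finsupp.finsetSum_apply,
    ← Equiv.sum_comp (MonoidHom.ofInjective (jHom_injective e)).toEquiv, Fintype.sum_prod_type]
  refine Finset.sum_congr rfl fun v _ => ?_
  rw [Finset.sum_eq_single y]
  · simp only [MulEquiv.toEquiv_eq_coe, EquivLike.coe_coe, Finsupp.single_apply, projHom_apply,
      if_true, H20.coeff_resAlg]
    rfl
  · intro z _ hz
    simp only [MulEquiv.toEquiv_eq_coe, EquivLike.coe_coe, Finsupp.single_apply, projHom_apply,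
      if_neg hz]
  · intro h
    exact absurd (Finset.mem_univ y) h

variable {M : Ideal AlgInt} [M.IsPrime]

theorem isCl_locMap {a : MonoidAlgebra (H20.k M) (Equiv.Perm (Fin n))} (ha : H20.IsCl a) :
    H20.IsCl (locMap e a) :=
  H20.isCl_mapDomain (projHom_surjective e) (ha.res _)

theorem resAlg_br {a : MonoidAlgebra (H20.k M) (Equiv.Perm (Fin n))} :
    H20.resAlg (jHom e).range (H20.br (transSub e) a) = H20.resAlg (jHom e).range a := by
  ext h
  rw [H20.coeff_resAlg, H20.coeff_resAlg, H20.coeff_br_of_mem _ (range_le_centralizer e h.2)]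

theorem locMap_mul [Fact p.Prime] (hM : IsPModular p M)
    {a b : MonoidAlgebra (H20.k M) (Equiv.Perm (Fin n))} (ha : H20.IsCl a) (hb : H20.IsCl b) :
    locMap e (a * b) = locMap e a * locMap e b := by
  haveI := H20.k_charP hM
  rw [locMap, ← resAlg_br, H20.br_mul (isPGroup_transSub e) (ha.isInv _) (hb.isInv _),
    H20.resAlg_mul _ fun g hg => H20.coeff_br_of_notMem a fun h => hg (centralizer_le_range e h),
    resAlg_br, resAlg_br, map_mul]
  rfl

/-- A character of the fixed points singles out one block. -/
theorem exists_lam_locMap [Fact p.Prime] (hM : IsPModular p M) (β : IrrCharacter (Equiv.Perm (Fin m))) :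
    ∃ χ : IrrCharacter (Equiv.Perm (Fin n)),
      ∀ a, H20.IsCl a → H20.lam M β (locMap e a) = H20.lam M χ a := by
  refine H20.exists_lam_eq (fun a => H20.lam M β (locMap e a)) ?_ ?_ ?_ ?_
  · simp [locMap, H20.resAlg_one, H20.lam_one]
  · simp [locMap, H20.resAlg_zero, H20.lam_zero]
  · intro a b ha hb
    rw [locMap_mul e hM ha hb, H20.lam_mul β (isCl_locMap e ha) (isCl_locMap e hb)]
  · intro a c _
    simp only [locMap, H20.resAlg_sub, H20.resAlg_smul, H20.resAlg_one, map_sub]
    rw [H20.lam_sub]
    congr 1
    rw [show MonoidAlgebra.mapDomainRingHom (H20.k M) (projHom e) (c • 1) =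
      c • (1 : MonoidAlgebra (H20.k M) (Equiv.Perm (Fin m))) from ?_, H20.lam_smul, H20.lam_one,
      mul_one]
    simp [MonoidAlgebra.mapDomainRingHom_apply, MonoidAlgebra.one_def]

/-- A block whose idempotent sees the centraliser is singled out by such a character. -/
theorem exists_lam_locMap_eRed [Fact p.Prime] (hM : IsPModular p M)
    {B : Set (IrrCharacter (Equiv.Perm (Fin n)))} (hB : IsPBlock M B)
    {g : Equiv.Perm (Fin n)} (hg : (H20.eRed M B).coeff g ≠ 0)
    (hgP : g ∈ Subgroup.centralizer (transSub e : Set (Equiv.Perm (Fin n)))) :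
    ∃ β : IrrCharacter (Equiv.Perm (Fin m)), H20.lam M β (locMap e (H20.eRed M B)) ≠ 0 := by
  classical
  haveI := H20.k_charP hM
  set f := H20.resAlg (jHom e).range (H20.eRed M B) with hf
  have hf0 : f ≠ 0 := by
    intro h
    apply hg
    have := congrArg (fun z => z.coeff (⟨g, centralizer_le_range e hgP⟩ : (jHom e).range)) h
    simpa [hf, H20.coeff_resAlg] using this
  have hff : f * f = f := by
    have hcl := H20.isCl_eRed (M := M) B
    conv_rhs => rw [hf, ← H20.eRed_mul_self hB, ← resAlg_br,
      H20.br_mul (isPGroup_transSub e) (hcl.isInv _) (hcl.isInv _),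
      H20.resAlg_mul _ fun g hg => H20.coeff_br_of_notMem _ fun h => hg (centralizer_le_range e h),
      resAlg_br]
  have hpow : ∀ k : ℕ, f ^ (k + 1) = f := by
    intro k
    induction k with
    | zero => rw [zero_add, pow_one]
    | succ k ih => rw [pow_succ, ih, hff]
  have hπ : locMap e (H20.eRed M B) ≠ 0 := by
    intro h0
    set Q := (transSub e).subgroupOf (jHom e).range with hQ
    haveI : Q.Normal :=
      (Subgroup.normal_subgroupOf_iff_le_normalizer (transSub_le e)).2 (range_le_normalizer e)
    have hQp : IsPGroup p Q :=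
      (isPGroup_transSub e).of_equiv (Subgroup.subgroupOfEquivOfLe (transSub_le e)).symm
    have hker : Q = (projHom e).ker := by
      ext x
      obtain ⟨⟨v, y⟩, rfl⟩ := (MonoidHom.ofInjective (jHom_injective e)).surjective x
      rw [MonoidHom.mem_ker, projHom_apply, Subgroup.mem_subgroupOf]
      constructor
      · rintro ⟨v', hv'⟩
        exact (congrArg Prod.snd (jHom_injective e hv')).symm
      · intro hy
        exact ⟨v, by rw [show y = 1 from hy]; rfl⟩
    let l : (jHom e).range ⧸ Q →* Equiv.Perm (Fin m) := QuotientGroup.lift Q (projHom e) hker.le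
    have hl : Function.Injective l := by
      rw [injective_iff_map_eq_one]
      intro x hx
      obtain ⟨x, rfl⟩ := QuotientGroup.mk_surjective x
      exact (QuotientGroup.eq_one_iff x).2 (hker ▸ hx)
    have hq : MonoidAlgebra.mapDomainRingHom (H20.k M) (QuotientGroup.mk' Q) f = 0 := by
      have h1 : MonoidAlgebra.mapDomainRingHom (H20.k M) l
          (MonoidAlgebra.mapDomainRingHom (H20.k M) (QuotientGroup.mk' Q) f) = 0 := by
        rw [← RingHom.comp_apply, ← MonoidAlgebra.mapDomainRingHom_comp]
        exact h0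
      ext x
      have h2 := congrArg (fun z => z.coeff (l x)) h1
      simp only [MonoidAlgebra.mapDomainRingHom_apply, MonoidAlgebra.coeff_mapDomain,
        Finsupp.mapDomain_apply hl] at h2
      exact h2
    obtain ⟨k, hk⟩ := H20.isNilpotent_of_mapDomain_eq_zero (p := p) hQp hq
    rcases k with _ | k
    · rw [pow_zero] at hk
      exact hf0 (by rw [← one_mul f, hk, zero_mul])
    · exact hf0 ((hpow k).symm.trans hk)
  by_contra hno
  simp only [not_exists, not_not] at hno
  obtain ⟨k, hk⟩ := H20.isNilpotent_of_lam_eq_zero (isCl_locMap e (H20.isCl_eRed B)) hno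
  rcases k with _ | k
  · rw [pow_zero] at hk
    exact hπ (by rw [← one_mul (locMap e (H20.eRed M B)), hk, zero_mul])
  · apply hπ
    rw [← hk]
    show locMap e (H20.eRed M B) = (MonoidAlgebra.mapDomainRingHom (H20.k M) (projHom e) f) ^ (k + 1)
    rw [← map_pow, hpow k]
    rfl

end H85.AltHeight
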