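import Cfsg.Agent.H85.AltHeight.Configs

/-!
# A character of height one
-/

set_option autoImplicit false
set_option linter.unusedSectionVars false
set_option linter.style.haveILetI false

open Cfsg Finset H18.SymBlock H18.AltBlock
open scoped Nat

namespace H85.AltHeight

variable {p : ℕ} [hp : Fact p.Prime]

theorem val_factorial_of_not_dvd {s : ℕ} (h : ¬ p ∣ s) :
    padicValNat p s ! = padicValNat p (s - 1)! := by
  obtain ⟨t, rfl⟩ : ∃ t, s = t + 1 := ⟨s - 1, by
    rcases Nat.eq_zero_or_pos s with rfl | hs
    · exact absurd (dvd_zero p) h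
    · omega⟩
  rw [Nat.factorial_succ, padicValNat.mul (by omega) (Nat.factorial_ne_zero t),
    padicValNat.eq_zero_of_not_dvd h, zero_add, Nat.add_sub_cancel]

theorem val_factorial_lt {a : ℕ} (h : a < p) : padicValNat p a ! = 0 :=
  padicValNat.eq_zero_of_not_dvd fun hd => absurd (hp.out.dvd_factorial.1 hd) (by omega)

theorem val_factorial_mul_add' {q t : ℕ} (ht : t < p) :
    padicValNat p (p * q + t)! = q + padicValNat p q ! := by
  rw [padicValNat_factorial_mul_add _ ht, padicValNat_factorial_mul, add_comm]

/-- A multinomial coefficient of `w` divisible by `p` exactly once. -/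
theorem exists_split : ∀ w : ℕ, p ≤ w → (p = 2 → w % 4 ≠ 3) →
    ∃ a b c : ℕ, a + b + c = w ∧
      padicValNat p a ! + padicValNat p b ! + padicValNat p c ! + 1 = padicValNat p w ! ∧
      (p = 2 → c = 0) := by
  intro w
  induction w using Nat.strong_induction_on with
  | _ w ih =>
  intro hw h2
  have hp2 := hp.out.two_le
  obtain ⟨s, t, ht, rfl⟩ : ∃ s t, t < p ∧ w = p * s + t :=
    ⟨w / p, w % p, Nat.mod_lt w hp.out.pos, (Nat.div_add_mod w p).symm⟩
  have hs : 1 ≤ s := by
    rcases Nat.eq_zero_or_pos s with rfl | h
    · omega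
    · exact h
  have hmul : p * (s - 1) + p = p * s := by
    rw [← Nat.mul_succ]
    congr 1
    omega
  by_cases hdvd : p ∣ s
  · have hsp : p ≤ s := Nat.le_of_dvd hs hdvd
    have hlt : s < p * s + t := by
      have : 2 * s ≤ p * s := Nat.mul_le_mul_right s hp2
      omega
    obtain ⟨a, b, c, hsum, hv, hc⟩ := ih s hlt hsp fun h => by
      subst h
      obtain ⟨u, rfl⟩ := hdvd
      omega
    refine ⟨p * a, p * b + t, p * c, ?_, ?_, fun h => by rw [hc h, mul_zero]⟩
    · rw [← hsum]; ring
    · rw [val_factorial_mul_add' ht, val_factorial_mul_add' ht, padicValNat_factorial_mul,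
        padicValNat_factorial_mul]
      omega
  · have hv := val_factorial_of_not_dvd hdvd
    by_cases htop : t + 1 < p
    · refine ⟨t + 1, p * (s - 1) + (p - 1), 0, by omega, ?_, fun _ => rfl⟩
      rw [val_factorial_lt htop, val_factorial_mul_add' (show p - 1 < p by omega),
        val_factorial_mul_add' ht, Nat.factorial_zero, padicValNat_one_right]
      omega
    · have hp3 : p ≠ 2 := fun h => by
        subst h
        have hsodd : s % 2 = 1 := by omega
        have := h2 rfl
        omega
      refine ⟨p - 1, p - 1, p * (s - 1) + 1, by omega, ?_, fun h => absurd h hp3⟩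
      rw [val_factorial_lt (show p - 1 < p by omega), val_factorial_mul_add' (show 1 < p by omega),
        val_factorial_mul_add' ht]
      omega

variable {n w : ℕ} {R : Multiset ℕ} (hidx : (alternatingGroup (Fin n)).index = 2)

include hidx in
/-- A character of the same residues and weight whose degree exceeds the least by one factor `p`. -/
theorem exists_height_one {ψ₀ : IrrCharacter (Equiv.Perm (Fin n))} (h₀ : ψ₀ ∈ charsOf n p w R)
    (hw : p ≤ w) (h3 : p = 2 → 3 ≤ w) :
    ∃ ψ ∈ charsOf n p w R,
      padicValNat p (H12.degree (ψ : Equiv.Perm (Fin n) → ℂ)) + w + padicValNat p w ! =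
        padicValNat p n ! + 1 ∧
      (p = 2 → twistSgn (alternatingGroup (Fin n)) hidx ψ ≠ ψ) := by
  have hp2 := hp.out.two_le
  have hk : ∀ r < p, w ≤ R.count r := fun r hr => le_count_residue h₀ hr
  by_cases hbad : p = 2 ∧ w % 4 = 3
  · obtain ⟨rfl, hw4⟩ := hbad
    have hk0 := hk 0 (by omega)
    set Q : ℕ → Finset ℕ := fun r =>
      if r = 0 then hookBeads (R.count 0 - 2) w else Finset.range (R.count r) with hQ
    have hsum : ∀ g : Finset ℕ → ℕ, ∑ r ∈ Finset.range 2, g (Q r) =
        g (hookBeads (R.count 0 - 2) w) + g (Finset.range (R.count 1)) := fun g => by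
      rw [Finset.sum_range_succ, Finset.sum_range_one]
      simp [hQ]
    obtain ⟨ψ, hψ, hrun⟩ := exists_char_of_runners h₀ Q (fun r hr => by
        rcases (show r = 0 ∨ r = 1 by omega) with rfl | rfl
        · simp only [hQ, if_pos]
          rw [card_hookBeads (by omega)]
          omega
        · simp [hQ])
      (by rw [hsum psize, psize_hookBeads (by omega), psize_range, add_zero])
    refine ⟨ψ, hψ, ?_, fun _ hself => ?_⟩
    · have h1 := val_degree_conf hψ
      rw [Finset.sum_congr rfl fun r hr => by rw [hrun r (Finset.mem_range.1 hr)], hsum (hval 2),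
        hval_range] at h1
      have h2 := hval_hookBeads (p := 2) (show 2 ≤ w by omega) (R.count 0 - 2)
      have h4 : padicValNat 2 (w - 1) = 1 := by
        obtain ⟨u, rfl⟩ : ∃ u, w = 4 * u + 3 := ⟨w / 4, by omega⟩
        rw [show 4 * u + 3 - 1 = 2 * (2 * u + 1) by omega,
          padicValNat.mul (by norm_num) (by omega), padicValNat.self (by norm_num),
          padicValNat.eq_zero_of_not_dvd (by omega)]
      omega
    · have h5 := psize_eq_of_self hidx hself
      rw [hrun 0 (by omega), hrun 1 (by omega)] at h5
      simp only [hQ, if_pos] at h5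
      rw [psize_hookBeads (by omega)] at h5
      simp [psize_range] at h5
      omega
  · obtain ⟨a, b, c, habc, hv, hc⟩ := exists_split w hw fun h h' => hbad ⟨h, h'⟩
    set f : ℕ → ℕ := fun r => if r = 0 then a else if r = 1 then b else if r = 2 then c else 0 with hf
    set Q : ℕ → Finset ℕ := fun r => rowSet (R.count r - 1) (f r) with hQ
    have hsum : ∀ g : ℕ → ℕ, g 0 = 0 → ∑ r ∈ Finset.range p, g (f r) = g a + g b + g c := by
      intro g hg
      rcases eq_or_ne p 2 with h | h
      · subst h
        rw [Finset.sum_range_succ, Finset.sum_range_one, hc rfl, hg, add_zero]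
        simp [hf]
      · rw [← Finset.sum_subset (Finset.range_mono (show 3 ≤ p by omega))]
        · rw [Finset.sum_range_succ, Finset.sum_range_succ, Finset.sum_range_one]
          simp [hf]
        · intro r _ hr
          rw [Finset.mem_range] at hr
          simp only [hf, if_neg (show r ≠ 0 by omega), if_neg (show r ≠ 1 by omega),
            if_neg (show r ≠ 2 by omega), hg]
    obtain ⟨ψ, hψ, hrun⟩ := exists_char_of_runners h₀ Q (fun r hr => by
        have := hk r hr
        rw [hQ, card_rowSet]
        omega)
      (by simp only [hQ, psize_rowSet]; rw [hsum (fun x => x) rfl]; exact habc)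
    refine ⟨ψ, hψ, ?_, fun h2' hself => ?_⟩
    · have h1 := val_degree_conf hψ
      rw [Finset.sum_congr rfl fun r hr => by rw [hrun r (Finset.mem_range.1 hr)]] at h1
      simp only [hQ, hval_rowSet] at h1
      rw [hsum (fun x => padicValNat p x !) (by simp)] at h1
      omega
    · subst h2'
      have h5 := psize_eq_of_self hidx hself
      rw [hrun 0 (by omega), hrun 1 (by omega)] at h5
      simp only [hQ, psize_rowSet] at h5
      have hfa : f 0 = a := rfl
      have hfb : f 1 = b := rfl
      rw [hfa, hfb] at h5
      have := h3 rfl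
      have := hc rfl
      refine not_self_of_rows hidx (j₀ := R.count 0 - 1) (j₁ := R.count 1 - 1) (show 2 ≤ a by omega) ?_ ?_ hself
      · rw [hrun 0 (by omega)]
        rfl
      · rw [hrun 1 (by omega)]
        simp only [hQ, hfb, ← h5]

end H85.AltHeight
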