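import Cfsg.Agent.H85.AltHeight.SameBlock
import Cfsg.Agent.H85.AltHeight.Cover
import Cfsg.Agent.H85.AltHeight.Witness
import Cfsg.Agent.H85.AltHeight.DefectIso
import Cfsg.Agent.H25.AltHeight.SylowChar

/-!
# The least positive height in a block of an alternating group
-/

set_option autoImplicit false
set_option linter.unusedSectionVars false
set_option linter.style.haveILetI false

open Cfsg Finset H18.SymBlock H18.AltBlock
open scoped Nat

namespace H85.AltHeight

variable {n p : ℕ} [hp : Fact p.Prime]

theorem heights_zero_of_const {G : Type} [Group G] [Fintype G] {B : Set (IrrCharacter G)}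
    (hne : B.Nonempty) {c : ℕ}
    (h : ∀ χ ∈ B, padicValNat p (H12.degree (χ : G → ℂ)) = c) :
    (∀ χ : IrrCharacter G, χ ∈ B → blockHeight p B (χ : G → ℂ) = 0) ∧
      blockDefect p B = padicValNat p (Nat.card G) - c := by
  have h2 : ∀ χ ∈ B, (charDegree (χ : G → ℂ)).factorization p = c := fun χ hχ => by
    rw [Nat.factorization_def _ hp.out]
    exact h χ hχ
  have h1 : (fun χ : IrrCharacter G => (charDegree (χ : G → ℂ)).factorization p) '' B = {c} :=
    Set.eq_singleton_iff_nonempty_unique_mem.2 ⟨hne.image _, by rintro _ ⟨χ, hχ, rfl⟩; exact h2 χ hχ⟩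
  refine ⟨fun χ hχ => ?_, ?_⟩
  · rw [blockHeight, h1, csInf_singleton, h2 χ hχ, Nat.sub_self]
  · rw [blockDefect, h1, csInf_singleton, Nat.factorization_def _ hp.out]

theorem val_mul_factorial (w : ℕ) :
    padicValNat p (w * p)! = w + padicValNat p w ! := by
  rw [mul_comm, padicValNat_factorial_mul, add_comm]

/-- The dichotomy when the alternating group has index two. -/
theorem main (hidx : (alternatingGroup (Fin n)).index = 2) {M : Ideal AlgInt}
    (hM : IsPModular p M) {B : Set (IrrCharacter (alternatingGroup (Fin n)))} (hB : IsPBlock M B)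
    {D : Subgroup (alternatingGroup (Fin n))} (hD : IsDefectGroup p M B D) :
    ((∃ χ : IrrCharacter (alternatingGroup (Fin n)), χ ∈ B ∧
        blockHeight p B (χ : alternatingGroup (Fin n) → ℂ) = 1) ∧
      (∃ φ' : IrrCharacter D, charDegree (φ' : D → ℂ) = p)) ∨
    ((∀ χ : IrrCharacter (alternatingGroup (Fin n)), χ ∈ B →
        blockHeight p B (χ : alternatingGroup (Fin n) → ℂ) = 0) ∧ IsMulCommutative D) := by
  classical
  haveI : M.IsPrime := hM.2.1.isPrime
  haveI := Subgroup.normal_of_index_eq_two hidx
  have hp2 := hp.out.two_le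
  obtain ⟨χ₀, hχ₀⟩ := H20.block_nonempty hB
  obtain ⟨ψ₀, hψ₀⟩ := exists_above (alternatingGroup (Fin n)) hidx χ₀
  have hmem₀ := mem_charsOf_of_sameBlock hM (H20.sameBlock_refl (M := M) (ψ₀ : Equiv.Perm (Fin n) → ℂ))
  have hab := fun χ (hχ : χ ∈ B) => exists_above_charsOf hidx hM hB hχ₀ hψ₀ hχ
  set w := weight p (betaOf ψ₀ : Fin n → ℕ) with hw
  set R := (Finset.univ : Finset (Fin n)).val.map (res p (betaOf ψ₀ : Fin n → ℕ))
  have hG := val_card_alt (p := p) hidx
  by_cases hsmall : w < p ∨ (p = 2 ∧ w ≤ 2)
  · right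
    by_cases h2 : p = 2
    · subst h2
      have hw2 : w ≤ 2 := by omega
      have he : eps 2 = 1 := rfl
      have hc : ∀ χ ∈ B, padicValNat 2 (H12.degree (χ : alternatingGroup (Fin n) → ℂ)) =
          padicValNat 2 n ! - (if w = 2 then 3 else 1) ∧
          (if w = 2 then 3 else 1) ≤ padicValNat 2 n ! := by
        intro χ hχ
        obtain ⟨ψ, hψ, hψχ⟩ := hab χ hχ
        have := val_eq_two hidx hψχ hψ rfl hw2
        omega
      obtain ⟨hh, hdef⟩ := heights_zero_of_const (H20.block_nonempty hB) fun χ hχ => (hc χ hχ).1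
      refine ⟨hh, ?_⟩
      have hk := H20.card_defectGroup hM hB hD
      have hle := (hc χ₀ hχ₀).2
      rw [hdef] at hk
      by_cases hw' : w = 2
      · rw [if_pos hw'] at hk hle
        rw [show padicValNat 2 (Nat.card (alternatingGroup (Fin n))) -
          (padicValNat 2 n ! - 3) = 2 by omega] at hk
        exact IsPGroup.isMulCommutative_of_card_eq_prime_sq hk
      · rw [if_neg hw'] at hk hle
        rw [show padicValNat 2 (Nat.card (alternatingGroup (Fin n))) -
          (padicValNat 2 n ! - 1) = 0 by omega, pow_zero] at hk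
        haveI := (Nat.card_eq_one_iff_unique.1 hk).1
        exact ⟨⟨fun a b => Subsingleton.elim _ _⟩⟩
    · have hwp : w < p := by omega
      have he : eps p = 0 := if_neg h2
      have hc : ∀ χ ∈ B, padicValNat p (H12.degree (χ : alternatingGroup (Fin n) → ℂ)) =
          padicValNat p n ! - w := by
        intro χ hχ
        obtain ⟨ψ, hψ, hψχ⟩ := hab χ hχ
        have := val_eq_of_lt hidx hψχ hψ h2 hwp
        omega
      obtain ⟨hh, hdef⟩ := heights_zero_of_const (H20.block_nonempty hB) hc
      refine ⟨hh, ?_⟩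
      obtain ⟨r, A, hr, hA, hsgn, hAc, -, hAcard⟩ := exists_even_elementary w p
      rw [if_neg h2] at hr
      obtain ⟨f, hf⟩ := exists_embedding_cycles hidx hM hB hD hχ₀ hψ₀ hA hsgn
      rw [hr] at hAcard
      obtain ⟨⟨e⟩, -⟩ := exists_mulEquiv hM hB hD f hf hAcard (by omega)
      refine ⟨⟨fun a b => e.symm.injective (Subtype.ext ?_)⟩⟩
      rw [map_mul, map_mul]
      exact hAc _ (e.symm a).2 _ (e.symm b).2
  · left
    rw [not_or, not_lt, not_and, not_le] at hsmall
    obtain ⟨hwp, hw3⟩ := hsmall
    haveI : Nontrivial (Fin w × Fin p) :=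
      Fintype.one_lt_card_iff_nontrivial.1 (by
        rw [Fintype.card_prod, Fintype.card_fin, Fintype.card_fin]
        have : 2 * 2 ≤ w * p := Nat.mul_le_mul (by omega) hp2
        omega)
    let P : Sylow p (alternatingGroup (Fin w × Fin p)) := default
    set A := (P : Subgroup (alternatingGroup (Fin w × Fin p))).map
      (alternatingGroup (Fin w × Fin p)).subtype with hAdef
    set k := padicValNat p (Nat.card (alternatingGroup (Fin w × Fin p))) with hk
    have hkv : k + eps p = w + padicValNat p w ! := by
      have h := two_mul_card (alternatingGroup (Fin w × Fin p)) alternatingGroup.index_eq_two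
      rw [Nat.card_eq_fintype_card (α := Equiv.Perm (Fin w × Fin p)), Fintype.card_perm,
        Fintype.card_prod, Fintype.card_fin, Fintype.card_fin] at h
      rw [← val_mul_factorial, ← h, padicValNat.mul (by norm_num) Nat.card_pos.ne', val_two, hk,
        add_comm]
    have hPcard : Nat.card (P : Subgroup (alternatingGroup (Fin w × Fin p))) = p ^ k := by
      rw [P.card_eq_multiplicity, Nat.factorization_def _ hp.out]
    let eP := (P : Subgroup (alternatingGroup (Fin w × Fin p))).equivMapOfInjective
      (alternatingGroup (Fin w × Fin p)).subtype (Subgroup.subtype_injective _)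
    have hAcard : Nat.card A = p ^ k := by rw [← hPcard]; exact (Nat.card_congr eP.toEquiv).symm
    have hA : IsPGroup p A := IsPGroup.of_card hAcard
    have hsgn : ∀ a ∈ A, Equiv.Perm.sign a = 1 := by
      rintro _ ⟨a, -, rfl⟩
      exact Equiv.Perm.mem_alternatingGroup.1 a.2
    obtain ⟨f, hf⟩ := exists_embedding_cycles hidx hM hB hD hχ₀ hψ₀ hA hsgn
    have hle : blockDefect p B ≤ k := blockDefect_le (H20.block_nonempty hB) fun χ hχ => by
      obtain ⟨ψ, hψ, hψχ⟩ := hab χ hχ
      have := val_ge hidx hψχ hψ (by omega)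
      omega
    obtain ⟨⟨e⟩, hdef⟩ := exists_mulEquiv hM hB hD f hf hAcard hle
    refine ⟨?_, ?_⟩
    · obtain ⟨ψ, hψ, hval, hne⟩ := exists_height_one hidx hmem₀ hwp fun h => by
        have := hw3 h
        omega
      obtain ⟨χ, hχ, χ', hχ', hdeg⟩ := exists_mem_same_degree (alternatingGroup (Fin n)) hidx hB hχ₀
        hψ₀ (sameBlock_of_mem_charsOf hM hmem₀ hψ)
      refine ⟨χ, hχ, ?_⟩
      have hpos : sInf ((fun θ : IrrCharacter (alternatingGroup (Fin n)) =>
          (charDegree (θ : alternatingGroup (Fin n) → ℂ)).factorization p) '' B) ≤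
          padicValNat p (Nat.card (alternatingGroup (Fin n))) := by
        have hd := hdef
        rw [blockDefect, Nat.factorization_def _ hp.out] at hd
        have : eps p ≤ 1 := by unfold eps; split_ifs <;> omega
        omega
      have h1 := blockHeight_add χ hχ hpos
      rw [hdeg, val_eq_of_not_self hidx hχ' hne, hdef] at h1
      omega
    · exact H25.AltHeight.HasDeg.of_mulEquiv
        (H25.AltHeight.exists_degree_p (p := p) hwp (fun h => by have := hw3 h; omega) P)
        (e.symm.trans eP.symm)

end H85.AltHeight
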