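import Mathlib
import Cfsg.Agent.H18.SymBlock.Configs
import Cfsg.Agent.H18.AltBlock.Twist

/-!
# The valuation of a hook product, runner by runner
-/

set_option autoImplicit false
set_option linter.unusedSectionVars false

open Finset H18.SymBlock H18.AltBlock
open scoped Nat

namespace H85.AltHeight

/-- The elements below `x`. -/
def lo (S : Finset ℕ) (x : ℕ) : Finset ℕ := {y ∈ S | y < x}

/-- The product of the differences. -/
def dif (S : Finset ℕ) : ℕ := ∏ x ∈ S, ∏ y ∈ lo S x, (x - y)

/-- The product of the factorials. -/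
def fac (S : Finset ℕ) : ℕ := ∏ x ∈ S, x !

theorem fac_ne_zero (S : Finset ℕ) : fac S ≠ 0 :=
  Finset.prod_ne_zero_iff.2 fun x _ => Nat.factorial_ne_zero x

theorem dif_ne_zero (S : Finset ℕ) : dif S ≠ 0 :=
  Finset.prod_ne_zero_iff.2 fun x _ => Finset.prod_ne_zero_iff.2 fun y hy => by
    have := (Finset.mem_filter.1 hy).2
    omega

theorem prod_sub_dvd_factorial (S : Finset ℕ) (x : ℕ) : ∏ y ∈ lo S x, (x - y) ∣ x ! := by
  have h : ∏ y ∈ lo S x, (x - y) = ∏ z ∈ (lo S x).image (fun y => x - y), z := by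
    rw [Finset.prod_image]
    intro a ha b hb h
    have := (Finset.mem_filter.1 ha).2
    have := (Finset.mem_filter.1 hb).2
    simp only at h
    omega
  have h2 : ∀ m : ℕ, ∏ z ∈ Finset.Icc 1 m, z = m ! := fun m => by
    induction m with
    | zero => simp
    | succ m ih => rw [Finset.prod_Icc_succ_top (by omega), ih, Nat.factorial_succ, mul_comm]
  rw [h, ← h2 x]
  refine Finset.prod_dvd_prod_of_subset _ _ _ fun z hz => ?_
  obtain ⟨y, hy, rfl⟩ := Finset.mem_image.1 hz
  have := (Finset.mem_filter.1 hy).2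
  rw [Finset.mem_Icc]
  omega

theorem dif_dvd_fac (S : Finset ℕ) : dif S ∣ fac S :=
  Finset.prod_dvd_prod_of_dvd _ _ fun x _ => prod_sub_dvd_factorial S x

/-- The valuation of the hook product of the partition with bead set `S`. -/
def hval (p : ℕ) (S : Finset ℕ) : ℕ := padicValNat p (fac S) - padicValNat p (dif S)

variable {p : ℕ} [hp : Fact p.Prime]

theorem val_dif_le (S : Finset ℕ) : padicValNat p (dif S) ≤ padicValNat p (fac S) :=
  (padicValNat_dvd_iff_le (fac_ne_zero S)).1 (dvd_trans pow_padicValNat_dvd (dif_dvd_fac S))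

theorem hval_add (S : Finset ℕ) :
    hval p S + padicValNat p (dif S) = padicValNat p (fac S) :=
  Nat.sub_add_cancel (val_dif_le S)

theorem val_prod {ι : Type*} (s : Finset ι) (f : ι → ℕ) (h : ∀ i ∈ s, f i ≠ 0) :
    padicValNat p (∏ i ∈ s, f i) = ∑ i ∈ s, padicValNat p (f i) := by
  classical
  induction s using Finset.induction with
  | empty => simp
  | insert a s ha ih =>
    rw [Finset.prod_insert ha, Finset.sum_insert ha,
      padicValNat.mul (h a (Finset.mem_insert_self a s))
        (Finset.prod_ne_zero_iff.2 fun i hi => h i (Finset.mem_insert_of_mem hi)),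
      ih fun i hi => h i (Finset.mem_insert_of_mem hi)]

theorem val_factorial_div (x : ℕ) :
    padicValNat p x ! = x / p + padicValNat p (x / p)! := by
  conv_lhs => rw [← Nat.div_add_mod x p]
  rw [padicValNat_factorial_mul_add _ (Nat.mod_lt x hp.out.pos), padicValNat_factorial_mul, add_comm]

theorem val_sub {x y : ℕ} (h : y < x) :
    padicValNat p (x - y) = if y % p = x % p then 1 + padicValNat p (x / p - y / p) else 0 := by
  split_ifs with hm
  · have h1 := Nat.mod_add_div x p
    have h2 := Nat.mod_add_div y p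
    have h3 : x - y = p * (x / p - y / p) := by
      rw [Nat.mul_sub]
      omega
    rw [h3, padicValNat.mul hp.out.ne_zero (by intro h0; rw [h0, mul_zero] at h3; omega),
      padicValNat.self hp.out.one_lt]
  · refine padicValNat.eq_zero_of_not_dvd fun hd => hm ?_
    exact (Nat.modEq_iff_dvd' h.le).2 hd

/-- The bead set of the `r`-th runner. -/
def runner (p : ℕ) (S : Finset ℕ) (r : ℕ) : Finset ℕ := ({x ∈ S | x % p = r}).image (· / p)

theorem mem_runner {S : Finset ℕ} {r q : ℕ} (hr : r < p) :
    q ∈ runner p S r ↔ r + p * q ∈ S := by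
  simp only [runner, Finset.mem_image, Finset.mem_filter]
  constructor
  · rintro ⟨x, ⟨hx, rfl⟩, rfl⟩
    rwa [Nat.mod_add_div]
  · intro h
    refine ⟨_, ⟨h, ?_⟩, ?_⟩
    · rw [Nat.add_mul_mod_self_left, Nat.mod_eq_of_lt hr]
    · rw [Nat.add_mul_div_left _ _ hp.out.pos, Nat.div_eq_of_lt hr, zero_add]

theorem injOn_div (S : Finset ℕ) (r : ℕ) :
    Set.InjOn (· / p) (({x ∈ S | x % p = r} : Finset ℕ) : Set ℕ) := by
  intro a ha b hb h
  have h1 := Nat.mod_add_div a p
  have h2 := Nat.mod_add_div b p
  rw [Finset.coe_filter] at ha hb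
  simp only at h
  rw [ha.2, h] at h1
  rw [hb.2] at h2
  omega

theorem card_runner (S : Finset ℕ) (r : ℕ) : #(runner p S r) = #{x ∈ S | x % p = r} :=
  Finset.card_image_of_injOn (injOn_div S r)

theorem card_runner_count (S : Finset ℕ) (r : ℕ) :
    #(runner p S r) = Multiset.count r (S.val.map (· % p)) := by
  classical
  rw [card_runner, Multiset.count_map]
  exact congrArg Finset.card (Finset.filter_congr fun x _ => eq_comm)

theorem eq_of_runner_eq {S T : Finset ℕ} (h : ∀ r < p, runner p S r = runner p T r) : S = T := by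
  ext x
  have hr := Nat.mod_lt x hp.out.pos
  rw [← Nat.mod_add_div x p, ← mem_runner hr, ← mem_runner hr, h _ hr]

theorem sum_eq_sum_runner (S : Finset ℕ) (g : ℕ → ℕ → ℕ) :
    ∑ x ∈ S, g (x % p) (x / p) = ∑ r ∈ Finset.range p, ∑ q ∈ runner p S r, g r q := by
  rw [← Finset.sum_fiberwise_of_maps_to (t := Finset.range p) (g := fun x => x % p)
    (fun x _ => Finset.mem_range.2 (Nat.mod_lt x hp.out.pos))]
  refine Finset.sum_congr rfl fun r _ => ?_
  rw [runner, Finset.sum_image (injOn_div S r)]
  exact Finset.sum_congr rfl fun x hx => by rw [(Finset.mem_filter.1 hx).2]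

theorem lo_runner (S : Finset ℕ) (x : ℕ) :
    lo (runner p S (x % p)) (x / p) = ({y ∈ S | y % p = x % p ∧ y < x}).image (· / p) := by
  ext q
  simp only [lo, runner, Finset.mem_filter, Finset.mem_image]
  constructor
  · rintro ⟨⟨y, ⟨hy, hm⟩, rfl⟩, hlt⟩
    refine ⟨y, ⟨hy, hm, ?_⟩, rfl⟩
    by_contra hle
    exact absurd (Nat.div_le_div_right (c := p) (not_lt.1 hle)) (not_le.2 hlt)
  · rintro ⟨y, ⟨hy, hm, hlt⟩, rfl⟩
    refine ⟨⟨y, ⟨hy, hm⟩, rfl⟩, ?_⟩
    refine lt_of_le_of_ne (Nat.div_le_div_right hlt.le) fun h => hlt.ne ?_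
    rw [← Nat.mod_add_div x p, ← Nat.mod_add_div y p, hm, h]

theorem injOn_div' (S : Finset ℕ) (x : ℕ) :
    Set.InjOn (· / p) (({y ∈ S | y % p = x % p ∧ y < x} : Finset ℕ) : Set ℕ) :=
  (injOn_div S (x % p)).mono fun y hy => by
    simp only [Finset.coe_filter, Set.mem_ofPred_eq] at hy ⊢
    exact ⟨hy.1, hy.2.1⟩

theorem below_eq_card_lo (S : Finset ℕ) (x : ℕ) :
    below p S x = #(lo (runner p S (x % p)) (x / p)) := by
  rw [lo_runner, Finset.card_image_of_injOn (injOn_div' S x)]
  rfl

/-- The weight of a bead set on one runner: the size of the partition. -/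
def psize (Q : Finset ℕ) : ℕ := ∑ q ∈ Q, (q - #(lo Q q))

theorem wt_eq_sum_psize (S : Finset ℕ) :
    wt p S = ∑ r ∈ Finset.range p, psize (runner p S r) := by
  simp only [psize, wt]
  rw [← sum_eq_sum_runner (p := p) S fun r q => q - #(lo (runner p S r) q)]
  exact Finset.sum_congr rfl fun x _ => by rw [below_eq_card_lo]

theorem val_fac (S : Finset ℕ) :
    padicValNat p (fac S) = ∑ x ∈ S, x / p +
      ∑ r ∈ Finset.range p, padicValNat p (fac (runner p S r)) := by
  rw [fac, val_prod _ _ fun x _ => Nat.factorial_ne_zero x]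
  rw [Finset.sum_congr rfl fun x _ => val_factorial_div (p := p) x]
  rw [Finset.sum_add_distrib]
  congr 1
  rw [sum_eq_sum_runner (p := p) S fun _ q => padicValNat p q !]
  exact Finset.sum_congr rfl fun r _ => by
    rw [fac, val_prod _ _ fun x _ => Nat.factorial_ne_zero x]

theorem val_dif_eq (Q : Finset ℕ) :
    padicValNat p (dif Q) = ∑ q ∈ Q, ∑ q' ∈ lo Q q, padicValNat p (q - q') := by
  have h : ∀ q, ∀ q' ∈ lo Q q, q - q' ≠ 0 := fun q q' hq' => by
    have := (Finset.mem_filter.1 hq').2
    omega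
  rw [dif, val_prod _ _ fun q _ => Finset.prod_ne_zero_iff.2 (h q)]
  exact Finset.sum_congr rfl fun q _ => val_prod _ _ (h q)

theorem val_dif (S : Finset ℕ) :
    padicValNat p (dif S) = ∑ x ∈ S, below p S x +
      ∑ r ∈ Finset.range p, padicValNat p (dif (runner p S r)) := by
  simp only [val_dif_eq]
  rw [← sum_eq_sum_runner (p := p) S
      fun r q => ∑ q' ∈ lo (runner p S r) q, padicValNat p (q - q'),
    ← Finset.sum_add_distrib]
  refine Finset.sum_congr rfl fun x _ => ?_
  rw [Finset.sum_congr (s₁ := lo S x) (g := fun y => if y % p = x % p then 1 + padicValNat p (x / p - y / p) else 0)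
      rfl fun y hy => val_sub (p := p) (Finset.mem_filter.1 hy).2, ← Finset.sum_filter,
    Finset.sum_add_distrib, ← Finset.card_eq_sum_ones, lo_runner, Finset.sum_image (injOn_div' S x)]
  have h : ({y ∈ lo S x | y % p = x % p}) = {y ∈ S | y % p = x % p ∧ y < x} := by
    ext y; simp only [lo, Finset.mem_filter]; tauto
  rw [h]
  rfl

/-- The hook product splits over the runners. -/
theorem hval_eq (S : Finset ℕ) :
    hval p S = wt p S + ∑ r ∈ Finset.range p, hval p (runner p S r) := by
  have h1 := hval_add (p := p) S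
  have h2 : ∑ r ∈ Finset.range p, hval p (runner p S r) +
      ∑ r ∈ Finset.range p, padicValNat p (dif (runner p S r)) =
      ∑ r ∈ Finset.range p, padicValNat p (fac (runner p S r)) := by
    rw [← Finset.sum_add_distrib]
    exact Finset.sum_congr rfl fun r _ => hval_add _
  have h3 : wt p S + ∑ x ∈ S, below p S x = ∑ x ∈ S, x / p := by
    rw [wt, ← Finset.sum_add_distrib]
    exact Finset.sum_congr rfl fun x _ => Nat.sub_add_cancel (below_le hp.out.pos S x)
  rw [val_fac, val_dif] at h1
  omega

/-! ### Special bead sets -/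

theorem lo_range (k x : ℕ) (hx : x < k) : lo (Finset.range k) x = Finset.range x := by
  ext y; simp [lo]; omega

theorem dif_range (k : ℕ) : dif (Finset.range k) = fac (Finset.range k) := by
  refine Finset.prod_congr rfl fun x hx => ?_
  rw [lo_range k x (Finset.mem_range.1 hx), ← Nat.descFactorial_eq_prod_range, Nat.descFactorial_self]

theorem psize_range (k : ℕ) : psize (Finset.range k) = 0 :=
  Finset.sum_eq_zero fun x hx => by rw [lo_range k x (Finset.mem_range.1 hx), Finset.card_range, Nat.sub_self]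

theorem hval_range (k : ℕ) : hval p (Finset.range k) = 0 := by
  rw [hval, dif_range, Nat.sub_self]

theorem lo_insert {Q : Finset ℕ} {x : ℕ} (h : ∀ q ∈ Q, q < x) :
    lo (insert x Q) x = Q ∧ ∀ q ∈ Q, lo (insert x Q) q = lo Q q := by
  constructor
  · ext y
    simp only [lo, Finset.mem_filter, Finset.mem_insert]
    constructor
    · rintro ⟨rfl | hy, hlt⟩
      · omega
      · exact hy
    · exact fun hy => ⟨Or.inr hy, h y hy⟩
  · intro q hq
    ext y
    simp only [lo, Finset.mem_filter, Finset.mem_insert]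
    constructor
    · rintro ⟨rfl | hy, hlt⟩
      · have := h q hq
        omega
      · exact ⟨hy, hlt⟩
    · exact fun hy => ⟨Or.inr hy.1, hy.2⟩

theorem psize_insert {Q : Finset ℕ} {x : ℕ} (h : ∀ q ∈ Q, q < x) :
    psize (insert x Q) = (x - #Q) + psize Q := by
  rw [psize, Finset.sum_insert fun hx => (h x hx).false, (lo_insert h).1]
  congr 1
  exact Finset.sum_congr rfl fun q hq => by rw [(lo_insert h).2 q hq]

theorem hval_insert {Q : Finset ℕ} {x : ℕ} (h : ∀ q ∈ Q, q < x) :
    hval p (insert x Q) + padicValNat p (∏ q ∈ Q, (x - q)) = padicValNat p x ! + hval p Q := by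
  have hx : x ∉ Q := fun hx => (h x hx).false
  have h1 : fac (insert x Q) = x ! * fac Q := Finset.prod_insert hx
  have h2 : dif (insert x Q) = (∏ q ∈ Q, (x - q)) * dif Q := by
    rw [dif, Finset.prod_insert hx, (lo_insert h).1]
    congr 1
    exact Finset.prod_congr rfl fun q hq => by rw [(lo_insert h).2 q hq]
  have h3 := hval_add (p := p) (insert x Q)
  have h4 := hval_add (p := p) Q
  have hne : ∏ q ∈ Q, (x - q) ≠ 0 := Finset.prod_ne_zero_iff.2 fun q hq => by have := h q hq; omega
  rw [h1, h2, padicValNat.mul (Nat.factorial_ne_zero x) (fac_ne_zero Q),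
    padicValNat.mul hne (dif_ne_zero Q)] at h3
  omega

/-- The bead set of a one-row partition. -/
def rowSet (j a : ℕ) : Finset ℕ := insert (j + a) (Finset.range j)

/-- The bead set of the hook `(w - 1, 1)`. -/
def hookBeads (j w : ℕ) : Finset ℕ := insert (j + w) (rowSet j 1)

theorem range_lt_rowTop (j a : ℕ) : ∀ q ∈ Finset.range j, q < j + a := fun q hq => by
  have := Finset.mem_range.1 hq; omega

theorem card_rowSet (j a : ℕ) : #(rowSet j a) = j + 1 := by
  rw [rowSet, Finset.card_insert_of_notMem fun h => (range_lt_rowTop j a _ h).false, Finset.card_range]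

theorem psize_rowSet (j a : ℕ) : psize (rowSet j a) = a := by
  rw [rowSet, psize_insert (range_lt_rowTop j a), psize_range, Finset.card_range]
  omega

theorem prod_rowTop (j a : ℕ) : ∏ q ∈ Finset.range j, (j + a - q) = (j + a).descFactorial j :=
  (Nat.descFactorial_eq_prod_range _ _).symm

theorem hval_rowSet (j a : ℕ) : hval p (rowSet j a) = padicValNat p a ! := by
  have h := hval_insert (p := p) (range_lt_rowTop j a)
  have hne : (j + a).descFactorial j ≠ 0 := (Nat.descFactorial_pos.2 (by omega)).ne'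
  rw [prod_rowTop, hval_range, ← Nat.factorial_mul_descFactorial (show j ≤ j + a by omega),
    padicValNat.mul (Nat.factorial_ne_zero _) hne, show j + a - j = a by omega] at h
  rw [rowSet]
  omega

theorem lt_hookTop {w : ℕ} (hw : 2 ≤ w) (j : ℕ) : ∀ q ∈ rowSet j 1, q < j + w := fun q hq => by
  rcases Finset.mem_insert.1 hq with rfl | hq
  · omega
  · have := Finset.mem_range.1 hq; omega

theorem card_hookBeads {w : ℕ} (hw : 2 ≤ w) (j : ℕ) : #(hookBeads j w) = j + 2 := by
  rw [hookBeads, Finset.card_insert_of_notMem fun h => (lt_hookTop hw j _ h).false, card_rowSet]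

theorem psize_hookBeads {w : ℕ} (hw : 2 ≤ w) (j : ℕ) : psize (hookBeads j w) = w := by
  rw [hookBeads, psize_insert (lt_hookTop hw j), psize_rowSet, card_rowSet]
  omega

theorem hval_hookBeads {w : ℕ} (hw : 2 ≤ w) (j : ℕ) :
    hval p (hookBeads j w) + padicValNat p (w - 1) = padicValNat p w ! := by
  have h := hval_insert (p := p) (lt_hookTop hw j)
  have hne : (j + w).descFactorial j ≠ 0 := (Nat.descFactorial_pos.2 (by omega)).ne'
  rw [rowSet, Finset.prod_insert fun h => (range_lt_rowTop j 1 _ h).false, prod_rowTop,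
    show j + w - (j + 1) = w - 1 by omega, padicValNat.mul (by omega) hne, ← rowSet, hval_rowSet,
    ← Nat.factorial_mul_descFactorial (show j ≤ j + w by omega),
    padicValNat.mul (Nat.factorial_ne_zero _) hne, show j + w - j = w by omega] at h
  simp only [Nat.factorial_one, padicValNat_one_right] at h
  rw [hookBeads]
  omega

/-! ### The conjugate bead set -/

theorem card_refl' {L : ℕ} {Q : Finset ℕ} (hQ : ∀ q ∈ Q, q < L) :
    #(refl' L Q) + #Q = L := by
  have h : refl' L Q = (Finset.range L \ Q).image fun z => L - 1 - z := by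
    ext x
    simp only [refl', Finset.mem_filter, Finset.mem_range, Finset.mem_image, Finset.mem_sdiff]
    exact ⟨fun ⟨h1, h2⟩ => ⟨L - 1 - x, ⟨by omega, h2⟩, by omega⟩,
      fun ⟨z, ⟨hz, hn⟩, hx⟩ => ⟨by omega, by rwa [show L - 1 - x = z by omega]⟩⟩
  have hsub : Q ⊆ Finset.range L := fun q hq => Finset.mem_range.2 (hQ q hq)
  rw [h, Finset.card_image_of_injOn, Finset.card_sdiff_of_subset hsub, Finset.card_range]
  · have := Finset.card_le_card hsub
    rw [Finset.card_range] at this
    omega
  · intro a ha b hb hab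
    have := Finset.mem_range.1 (Finset.mem_sdiff.1 ha).1
    have := Finset.mem_range.1 (Finset.mem_sdiff.1 hb).1
    simp only at hab
    omega

theorem psize_add_sum_range (Q : Finset ℕ) :
    psize Q + ∑ i ∈ Finset.range #Q, i = ∑ q ∈ Q, q := by
  induction Q using Finset.induction_on_max with
  | empty => simp [psize]
  | insert a s h ih =>
    rw [psize_insert h, Finset.sum_insert fun hx => (h a hx).false,
      Finset.card_insert_of_notMem fun hx => (h a hx).false, Finset.sum_range_succ]
    have h2 : #s ≤ a := by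
      calc #s ≤ #(Finset.range a) := Finset.card_le_card fun q hq => Finset.mem_range.2 (h q hq)
        _ = a := Finset.card_range a
    omega

theorem psize_refl' {L : ℕ} {Q : Finset ℕ} (hQ : ∀ q ∈ Q, q < L) :
    psize (refl' L Q) = psize Q := by
  have h : refl' L Q = (Finset.range L \ Q).image fun z => L - 1 - z := by
    ext x
    simp only [refl', Finset.mem_filter, Finset.mem_range, Finset.mem_image, Finset.mem_sdiff]
    exact ⟨fun ⟨h1, h2⟩ => ⟨L - 1 - x, ⟨by omega, h2⟩, by omega⟩,
      fun ⟨z, ⟨hz, hn⟩, hx⟩ => ⟨by omega, by rwa [show L - 1 - x = z by omega]⟩⟩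
  have hsub : Q ⊆ Finset.range L := fun q hq => Finset.mem_range.2 (hQ q hq)
  have hinj : Set.InjOn (fun z => L - 1 - z) ((Finset.range L \ Q : Finset ℕ) : Set ℕ) := by
    intro a ha b hb hab
    have := Finset.mem_range.1 (Finset.mem_sdiff.1 ha).1
    have := Finset.mem_range.1 (Finset.mem_sdiff.1 hb).1
    simp only at hab
    omega
  have e1 := psize_add_sum_range Q
  have e2 := psize_add_sum_range (refl' L Q)
  have e3 := card_refl' hQ
  have e4 : ∑ q ∈ refl' L Q, q + ∑ z ∈ Finset.range L, z = #(refl' L Q) * (L - 1) + ∑ q ∈ Q, q := by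
    rw [h, Finset.sum_image hinj, Finset.card_image_of_injOn hinj, ← Finset.sum_sdiff hsub,
      ← add_assoc, ← Finset.sum_add_distrib]
    congr 1
    rw [← smul_eq_mul, ← Finset.sum_const]
    refine Finset.sum_congr rfl fun z hz => ?_
    have := Finset.mem_range.1 (Finset.mem_sdiff.1 hz).1
    omega
  have g : ∀ k : ℕ, 2 * ((∑ i ∈ Finset.range k, i : ℕ) : ℤ) = (k : ℤ) * ((k : ℤ) - 1) := by
    intro k
    induction k with
    | zero => simp
    | succ k ih => rw [Finset.sum_range_succ]; push_cast at ih ⊢; linarith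
  have g1 := g #Q
  have g2 := g #(refl' L Q)
  have g3 := g L
  rcases Nat.eq_zero_or_pos L with hL | hL
  · subst hL
    simp [refl', psize, Finset.subset_empty.1 (by simpa using hsub : Q ⊆ ∅)]
  · zify [hL] at e1 e2 e3 e4
    refine Int.ofNat.inj (?_ : (psize (refl' L Q) : ℤ) = (psize Q : ℤ))
    push_cast at g1 g2 g3 e1 e2 e4
    rw [← e3] at g3 e4
    nlinarith

end H85.AltHeight
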