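import Cfsg.Agent.H85.AltHeight.Local
import Cfsg.Agent.H85.AltHeight.Configs

/-!
# Equal residues and equal weight give the same block
-/

set_option autoImplicit false
set_option linter.unusedSectionVars false
set_option linter.style.haveILetI false

open Cfsg Finset H18.SymBlock H18.AltBlock MonoidAlgebra
open scoped Nat

namespace H85.AltHeight

variable {M : Ideal AlgInt} [M.IsPrime] {p : ℕ} [hp : Fact p.Prime]

open Classical in
/-- The sum of the permutations with a given number of orbits. -/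
noncomputable def orbSum (R : Type*) [CommRing R] (α : Type) [Fintype α] [DecidableEq α] (t : ℕ) :
    MonoidAlgebra R (Equiv.Perm α) :=
  H20.ofFun fun g => if numOrb g = t then 1 else 0

theorem isCl_orbSum (R : Type*) [CommRing R] (α : Type) [Fintype α] [DecidableEq α] (t : ℕ) :
    H20.IsCl (orbSum R α t) := by
  intro g c
  have h : numOrb (c * g * c⁻¹) = numOrb g := by
    refine Nat.card_congr (Quotient.congr c.symm fun a b => ?_)
    exact Equiv.Perm.sameCycle_conj
  simp only [orbSum, H20.coeff_ofFun, h]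

theorem lam_orbSum {α : Type} [Fintype α] [DecidableEq α] {N : ℕ} (hM : IsPModular p M)
    (b : Beta N (Fintype.card α)) (t : ℕ) :
    H20.lam M (irrOf b) (orbSum (H20.k M) α t) =
      (((contentPoly N (b : Fin N → ℕ)).coeff t : ℤ) : H20.k M) := by
  classical
  have h1 : H20.rd (orbSum (H20.O M) α t) = orbSum (H20.k M) α t := by
    ext g
    simp [orbSum, H20.coeff_ofFun, apply_ite (H20.red M)]
  have h2 : H20.omega (irrOf b : Equiv.Perm α → ℂ) (H20.emb (orbSum (H20.O M) α t)) =
      (((contentPoly N (b : Fin N → ℕ)).coeff t : ℤ) : ℂ) := by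
    obtain ⟨ε, hε, hb⟩ := irrOf_spec b
    have hε0 : ε ≠ 0 := by rcases hε with rfl | rfl <;> norm_num
    rw [H20.omega, coeff_contentPoly b.2, Finset.sum_div]
    refine Finset.sum_congr rfl fun g _ => ?_
    simp only [orbSum, H20.coeff_emb, H20.coeff_ofFun, hb, Pi.smul_apply, smul_eq_mul]
    split_ifs
    · simp [mul_div_mul_left _ _ hε0]
    · simp
  rw [← h1, H20.lam_rd _ (isCl_orbSum _ α t), h2,
    show ((((contentPoly N (b : Fin N → ℕ)).coeff t : ℤ) : ℂ)) =
      ((((contentPoly N (b : Fin N → ℕ)).coeff t : ℤ) : H20.O M) : ℂ) by simp, H20.redC_coe,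
    map_intCast]

variable {w m n : ℕ} [NeZero p] (e : ((Fin w × Fin p) ⊕ Fin m) ≃ Fin n)

/-- The number of orbits of a translation of the cycles. -/
def orbA (v : Multiplicative (Fin w → Fin p)) : ℕ :=
  ∑ i, if Multiplicative.toAdd v i = 0 then p else 1

theorem lam_locMap_orbSum (hM : IsPModular p M) (c : Beta n (Fintype.card (Fin m))) (t : ℕ) :
    H20.lam M (irrOf c) (locMap e (orbSum (H20.k M) (Fin n) t)) =
      (((∑ v : Multiplicative (Fin w → Fin p),
        Polynomial.X ^ orbA v * contentPoly n (c : Fin n → ℕ)).coeff t : ℤ) : H20.k M) := by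
  classical
  have h : locMap e (orbSum (H20.k M) (Fin n) t) = ∑ v : Multiplicative (Fin w → Fin p),
      if orbA v ≤ t then orbSum (H20.k M) (Fin m) (t - orbA v) else 0 := by
    ext y
    rw [coeff_locMap, MonoidAlgebra.coeff_sum, Finsupp.finsetSum_apply]
    refine Finset.sum_congr rfl fun v _ => ?_
    rw [orbSum, H20.coeff_ofFun, numOrb_jHom]
    show (if orbA v + numOrb y = t then (1 : H20.k M) else 0) = _
    by_cases hle : orbA v ≤ t
    · rw [if_pos hle, orbSum, H20.coeff_ofFun]
      exact if_congr (by omega) rfl rfl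
    · rw [if_neg hle, if_neg (by omega)]
      rfl
  rw [h, H20.lam_sum, Polynomial.finsetSum_coeff, Int.cast_sum]
  refine Finset.sum_congr rfl fun v _ => ?_
  rw [Polynomial.coeff_X_pow_mul']
  split_ifs with hle
  · rw [lam_orbSum hM]
  · rw [H20.lam_zero, Int.cast_zero]

theorem sum_orbA :
    (∑ v : Multiplicative (Fin w → Fin p), (Polynomial.X : Polynomial (ZMod p)) ^ orbA v) =
      (Polynomial.X ^ p - Polynomial.X) ^ w := by
  classical
  simp only [orbA, ← Finset.prod_pow_eq_pow_sum]
  rw [show (∑ v : Multiplicative (Fin w → Fin p),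
      ∏ i, (Polynomial.X : Polynomial (ZMod p)) ^ (if Multiplicative.toAdd v i = 0 then p else 1)) =
    ∑ f : Fin w → Fin p, ∏ i, (Polynomial.X : Polynomial (ZMod p)) ^ (if f i = 0 then p else 1) from
      Fintype.sum_equiv Multiplicative.toAdd _ _ fun v => rfl]
  rw [← Fintype.prod_sum (fun (_ : Fin w) (v : Fin p) =>
    (Polynomial.X : Polynomial (ZMod p)) ^ (if v = 0 then p else 1)), Finset.prod_const,
    Finset.card_univ, Fintype.card_fin]
  congr 1
  rw [← Finset.add_sum_erase _ _ (Finset.mem_univ (0 : Fin p)), if_pos rfl,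
    Finset.sum_congr rfl (g := fun _ => (Polynomial.X : Polynomial (ZMod p))) (fun v hv => by
      rw [if_neg (Finset.mem_erase.1 hv).1, pow_one]),
    Finset.sum_const, Finset.card_erase_of_mem (Finset.mem_univ _), Finset.card_univ,
    Fintype.card_fin, nsmul_eq_mul, Nat.cast_sub hp.out.one_le, CharP.cast_eq_zero]
  push_cast
  ring

theorem map_contentPoly_roots {N : ℕ} (c : Fin N → ℕ) :
    ((contentPoly N c).map (Int.castRingHom (ZMod p))).roots =
      (resid p c).map fun x => (N : ZMod p) - x := by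
  have key : (contentPoly N c).map (Int.castRingHom (ZMod p)) =
      (((resid p c).map fun x => (N : ZMod p) - x).map fun a => Polynomial.X - Polynomial.C a).prod := by
    rw [Multiset.map_map, contentPoly, Polynomial.map_prod, resid, ← Multiset.coe_mapAddMonoidHom,
      map_sum]
    rw [show (∑ x : Fin N, (Multiset.mapAddMonoidHom
        ((fun a => Polynomial.X - Polynomial.C a) ∘ fun x => (N : ZMod p) - x))
      ((Finset.Ioc (x : ℕ) (c x)).val.map fun k : ℕ => (k : ZMod p))).prod = ∏ x : Fin N,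
      ((Multiset.mapAddMonoidHom ((fun a => Polynomial.X - Polynomial.C a) ∘ fun x => (N : ZMod p) - x))
      ((Finset.Ioc (x : ℕ) (c x)).val.map fun k : ℕ => (k : ZMod p))).prod from Multiset.prod_sum _ _]
    refine Finset.prod_congr rfl fun i _ => ?_
    rw [Multiset.coe_mapAddMonoidHom, Multiset.map_map, Polynomial.map_prod, Finset.prod_eq_multiset_prod]
    congr 1
    refine Multiset.map_congr rfl fun k _ => ?_
    simp only [Function.comp_apply, Polynomial.map_add, Polynomial.map_X, Polynomial.map_C, eq_intCast]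
    push_cast
    simp
    ring
  rw [key, Polynomial.roots_multiset_prod_X_sub_C]

/-- The local character has the residues of the core. -/
theorem map_res_of_locMap (hM : IsPModular p M) {b : Beta n (Fintype.card (Fin n))}
    {c : Beta n (Fintype.card (Fin m))}
    (h : ∀ a, H20.IsCl a → H20.lam M (irrOf c) (locMap e a) = H20.lam M (irrOf b) a) :
    (Finset.univ : Finset (Fin n)).val.map (res p (c : Fin n → ℕ)) =
      (Finset.univ : Finset (Fin n)).val.map (res p (b : Fin n → ℕ)) := by
  classical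
  haveI := H20.k_charP hM
  haveI : NeZero p := ⟨hp.out.pos.ne'⟩
  set Q : Polynomial ℤ := ∑ v : Multiplicative (Fin w → Fin p),
    Polynomial.X ^ orbA v * contentPoly n (c : Fin n → ℕ) with hQ
  have hpoly : (contentPoly n (b : Fin n → ℕ)).map (Int.castRingHom (ZMod p)) =
      Q.map (Int.castRingHom (ZMod p)) := by
    ext t
    rw [Polynomial.coeff_map, Polynomial.coeff_map, eq_intCast, eq_intCast]
    have h1 := h _ (isCl_orbSum _ (Fin n) t)
    rw [lam_locMap_orbSum e hM, lam_orbSum hM, CharP.intCast_eq_intCast (H20.k M) p] at h1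
    exact ((CharP.intCast_eq_intCast (ZMod p) p).2 h1).symm
  rw [hQ, Polynomial.map_sum] at hpoly
  simp only [Polynomial.map_mul, Polynomial.map_pow, Polynomial.map_X] at hpoly
  rw [← Finset.sum_mul, sum_orbA] at hpoly
  have hX : (Polynomial.X ^ p - Polynomial.X : Polynomial (ZMod p)) ≠ 0 :=
    FiniteField.X_pow_card_sub_X_ne_zero (ZMod p) hp.out.one_lt
  have hc : (contentPoly n (c : Fin n → ℕ)).map (Int.castRingHom (ZMod p)) ≠ 0 :=
    ((contentPoly_monic _).map _).ne_zero
  have hr : (Polynomial.X ^ p - Polynomial.X : Polynomial (ZMod p)).roots =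
      (Finset.univ : Finset (ZMod p)).val := by
    have h0 := FiniteField.roots_X_pow_card_sub_X (ZMod p)
    rwa [ZMod.card p] at h0
  have h2 := congrArg Polynomial.roots hpoly
  rw [map_contentPoly_roots, Polynomial.roots_mul (mul_ne_zero (pow_ne_zero w hX) hc),
    Polynomial.roots_pow, hr, map_contentPoly_roots] at h2
  have hU : ((Finset.univ : Finset (ZMod p)).val).map (fun x => (n : ZMod p) - x) =
      (Finset.univ : Finset (ZMod p)).val :=
    Multiset.map_univ_val_equiv (Equiv.subLeft (n : ZMod p))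
  rw [← hU, ← Multiset.map_nsmul, ← Multiset.map_add] at h2
  have h3 := Multiset.map_injective sub_right_injective h2
  have hU1 : ((Finset.univ : Finset (ZMod p)).val).map (fun x => x + 1) =
      (Finset.univ : Finset (ZMod p)).val := Multiset.map_univ_val_equiv (Equiv.addRight (1 : ZMod p))
  refine map_res_eq_of_cls ?_
  have e1 := resid_shift (p := p) b.2.1
  have e2 := resid_shift (p := p) c.2.1
  rw [h3, Multiset.map_add, Multiset.map_nsmul, hU1] at e1
  rw [add_assoc, add_assoc (w • (Finset.univ : Finset (ZMod p)).val), e2] at e1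
  exact Multiset.map_injective (add_left_injective (1 : ZMod p))
    (add_left_cancel (add_left_cancel e1))

theorem beta_eq_of_map_res {N k : ℕ} {c c' : Beta N k}
    (hres : (Finset.univ : Finset (Fin N)).val.map (res p (c : Fin N → ℕ)) =
      (Finset.univ : Finset (Fin N)).val.map (res p (c' : Fin N → ℕ)))
    (hw : wt p (Finset.univ.image (c : Fin N → ℕ)) = 0)
    (hw' : wt p (Finset.univ.image (c' : Fin N → ℕ)) = 0) : c = c' := by
  have hS : ∀ d : Beta N k, (Finset.univ.image (d : Fin N → ℕ)).val.map (· % p) =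
      (Finset.univ : Finset (Fin N)).val.map (res p (d : Fin N → ℕ)) := fun d => by
    rw [Finset.image_val_of_injOn d.2.1.injective.injOn, Multiset.map_map]
    rfl
  have h := eq_of_wt_zero hp.out.pos ((hS c).trans (hres.trans (hS c').symm)) hw hw'
  refine Subtype.ext ((c.2.1.range_inj c'.2.1).1 ?_)
  have h2 := congrArg (fun S : Finset ℕ => (S : Set ℕ)) h
  simpa using h2

theorem exists_class_fixing' {R : Multiset ℕ} (hM : IsPModular p M)
    {ψ : IrrCharacter (Equiv.Perm (Fin n))} (hψ : ψ ∈ charsOf n p w R) :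
    ∃ g : Equiv.Perm (Fin n), (H20.eRed M (blockOf M (ψ : Equiv.Perm (Fin n) → ℂ))).coeff g ≠ 0 ∧
      g ∈ Subgroup.centralizer (transSub e : Set (Equiv.Perm (Fin n))) := by
  obtain ⟨-, -, hw, -⟩ := mem_charsOf.1 hψ
  subst hw
  obtain ⟨g, m', e', hg, hcomm⟩ := exists_class_fixing hM (H20.isPBlock_blockOf (M := M) ψ)
    (b := betaOf ψ) (by rw [irrOf_betaOf]; exact H20.mem_blockOf_self ψ)
  obtain rfl : m' = m := by
    have h1 := Fintype.card_congr e
    have h2 := Fintype.card_congr e'
    simp only [Fintype.card_sum, Fintype.card_prod, Fintype.card_fin] at h1 h2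
    omega
  set σ : Equiv.Perm (Fin n) := e'.symm.trans e
  refine ⟨σ * g * σ⁻¹, ?_, ?_⟩
  · rwa [H20.isCl_eRed _ g σ]
  · rintro _ ⟨v, rfl⟩
    have hj : ((jHom e).comp (MonoidHom.inl _ _)) v =
        σ * e'.permCongr (Equiv.sumCongr (shiftHom _ (Fin p) v) 1) * σ⁻¹ := by
      ext k
      simp [jHom_apply, σ, Equiv.permCongr_apply]
    rw [hj]
    have := hcomm (shiftHom _ (Fin p) v)
    calc σ * e'.permCongr (Equiv.sumCongr (shiftHom _ (Fin p) v) 1) * σ⁻¹ * (σ * g * σ⁻¹)
        = σ * (e'.permCongr (Equiv.sumCongr (shiftHom _ (Fin p) v) 1) * g) * σ⁻¹ := by group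
      _ = _ := by rw [← this]; group

/-- **Sufficiency half of Nakayama's conjecture.** -/
theorem sameBlock_of_mem_charsOf {R : Multiset ℕ} (hM : IsPModular p M)
    {ψ φ' : IrrCharacter (Equiv.Perm (Fin n))} (hψ : ψ ∈ charsOf n p w R)
    (hφ : φ' ∈ charsOf n p w R) :
    SameBlock M (ψ : Equiv.Perm (Fin n) → ℂ) (φ' : Equiv.Perm (Fin n) → ℂ) := by
  classical
  obtain ⟨hinj, -, hw, hR⟩ := mem_charsOf.1 hψ
  obtain ⟨m, hm, -⟩ := exists_residual hp.out.pos (betaOf ψ).2
  replace hm : n = p * w + m := by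
    have h1 := Fintype.card_fin n
    rw [hw] at hm
    omega
  haveI : NeZero p := ⟨hp.out.pos.ne'⟩
  let e : ((Fin w × Fin p) ⊕ Fin m) ≃ Fin n := Fintype.equivOfCardEq (by
    simp only [Fintype.card_sum, Fintype.card_prod, Fintype.card_fin]
    rw [mul_comm]; omega)
  have hmn : Fintype.card (Fin m) ≤ n := by rw [Fintype.card_fin]; omega
  have key : ∀ θ ∈ charsOf n p w R, ∃ c : Beta n (Fintype.card (Fin m)),
      (Finset.univ : Finset (Fin n)).val.map (res p (c : Fin n → ℕ)) = R ∧
      ∀ a, H20.IsCl a → H20.lam M (irrOf c) (locMap e a) = H20.lam M θ a := by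
    intro θ hθ
    obtain ⟨g, hg, hgP⟩ := exists_class_fixing' e hM hθ
    obtain ⟨β, hβ⟩ := exists_lam_locMap_eRed e hM (H20.isPBlock_blockOf (M := M) θ) hg hgP
    obtain ⟨χ, hχ⟩ := exists_lam_locMap e hM β
    obtain ⟨c, rfl⟩ := (irrOf_bijective (α := Fin m) hmn).2 β
    have hmem : χ ∈ blockOf M (θ : Equiv.Perm (Fin n) → ℂ) := by
      by_contra hno
      apply hβ
      rw [hχ _ (H20.isCl_eRed _), H20.lam_eRed (H20.isPBlock_blockOf (M := M) θ), if_neg hno]
    have hall : ∀ a, H20.IsCl a → H20.lam M (irrOf c) (locMap e a) = H20.lam M θ a := fun a ha => by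
      rw [hχ a ha]
      exact (H20.lam_eq_of_sameBlock (hmem : SameBlock M (θ : Equiv.Perm (Fin n) → ℂ)
        (χ : Equiv.Perm (Fin n) → ℂ)) a).symm
    refine ⟨c, ?_, hall⟩
    rw [← (mem_charsOf.1 hθ).2.2.2]
    exact map_res_of_locMap e hM (b := betaOf θ) (by rw [irrOf_betaOf]; exact hall)
  obtain ⟨c, hc, hcl⟩ := key ψ hψ
  obtain ⟨c', hc', hcl'⟩ := key φ' hφ
  have hwt : ∀ d : Beta n (Fintype.card (Fin m)),
      (Finset.univ : Finset (Fin n)).val.map (res p (d : Fin n → ℕ)) = R →
      wt p (Finset.univ.image (d : Fin n → ℕ)) = 0 := by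
    intro d hd
    have h1 : (Finset.univ.image (d : Fin n → ℕ)).val.map (· % p) = (confOf ψ).val.map (· % p) := by
      rw [(conf_of_mem hψ).1, Finset.image_val_of_injOn d.2.1.injective.injOn, Multiset.map_map, ← hd]
      rfl
    have h2 := sum_add_wt hp.out.pos h1
    rw [(conf_of_mem hψ).2, sum_confOf, Finset.sum_image fun a _ b _ h => d.2.1.injective h, d.2.2] at h2
    have h3 := Fintype.card_fin m
    exact (mul_eq_zero.1 (show p * wt p (Finset.univ.image (d : Fin n → ℕ)) = 0 by omega)
      ).resolve_left hp.out.ne_zero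
  obtain rfl : c = c' := beta_eq_of_map_res (hc.trans hc'.symm)
    (hwt c hc) (hwt c' hc')
  rw [H20.sameBlock_iff]
  intro g
  rw [← hcl _ (H20.isCl_clSum _ g), hcl' _ (H20.isCl_clSum _ g)]

end H85.AltHeight
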