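import Cfsg.Agent.H85.AltHeight.Configs
import Cfsg.Agent.H18.AltBlock.Cover

/-!
# Valuations of the degrees in a block of an alternating group
-/

set_option autoImplicit false
set_option linter.unusedSectionVars false
set_option linter.style.haveILetI false

open Cfsg Finset H18.SymBlock H18.AltBlock
open scoped Nat

namespace H85.AltHeight

variable {n p : ℕ} [hp : Fact p.Prime] (hidx : (alternatingGroup (Fin n)).index = 2)

/-- The defect `0` or `1` of the index. -/
def eps (p : ℕ) : ℕ := if p = 2 then 1 else 0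

theorem val_two : padicValNat p 2 = eps p := by
  rw [eps]
  split_ifs with h
  · subst h; exact padicValNat.self (by norm_num)
  · exact padicValNat.eq_zero_of_not_dvd fun hd =>
      h ((Nat.prime_dvd_prime_iff_eq hp.out Nat.prime_two).1 hd)

include hidx in
theorem val_card_alt :
    padicValNat p (Nat.card (alternatingGroup (Fin n))) + eps p = padicValNat p n ! := by
  have h := two_mul_card (alternatingGroup (Fin n)) hidx
  rw [Nat.card_eq_fintype_card (α := Equiv.Perm (Fin n)), Fintype.card_perm, Fintype.card_fin] at h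
  rw [← h, padicValNat.mul (by norm_num) Nat.card_pos.ne', val_two, add_comm]

include hidx in
/-- Every member lies under a character of the same residues and weight. -/
theorem exists_above_charsOf {M : Ideal AlgInt} [M.IsPrime] (hM : IsPModular p M)
    {B : Set (IrrCharacter (alternatingGroup (Fin n)))} (hB : IsPBlock M B)
    {χ₀ : IrrCharacter (alternatingGroup (Fin n))} (hχ₀ : χ₀ ∈ B)
    {ψ₀ : IrrCharacter (Equiv.Perm (Fin n))}
    (hψ₀ : classInner (fun h : alternatingGroup (Fin n) => (ψ₀ : Equiv.Perm (Fin n) → ℂ) h)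
      (χ₀ : alternatingGroup (Fin n) → ℂ) ≠ 0)
    {χ : IrrCharacter (alternatingGroup (Fin n))} (hχ : χ ∈ B) :
    ∃ ψ ∈ charsOf n p (weight p (betaOf ψ₀ : Fin n → ℕ))
        ((Finset.univ : Finset (Fin n)).val.map (res p (betaOf ψ₀ : Fin n → ℕ))),
      classInner (fun h : alternatingGroup (Fin n) => (ψ : Equiv.Perm (Fin n) → ℂ) h)
        (χ : alternatingGroup (Fin n) → ℂ) ≠ 0 := by
  haveI := Subgroup.normal_of_index_eq_two hidx
  obtain ⟨θ, hθ⟩ := exists_above (alternatingGroup (Fin n)) hidx χ
  rcases sameBlock_or_twist (alternatingGroup (Fin n)) hidx hψ₀ hθ (H20.sameBlock_of_mem hB hχ₀ hχ) with h | h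
  · exact ⟨θ, mem_charsOf_of_sameBlock hM h, hθ⟩
  · refine ⟨twistSgn (alternatingGroup (Fin n)) hidx θ, mem_charsOf_of_sameBlock hM ?_,
      by rw [res_twistSgn]; exact hθ⟩
    rw [H20.sameBlock_iff] at h ⊢
    intro g
    have hg := h g
    by_cases hgH : g ∈ (alternatingGroup (Fin n))
    · rw [(lam_twistSgn (alternatingGroup (Fin n)) hidx _ g).1 hgH] at hg ⊢
      exact hg
    · rw [(lam_twistSgn (alternatingGroup (Fin n)) hidx _ g).2 hgH] at hg ⊢
      rw [← hg, neg_neg]

variable {ψ : IrrCharacter (Equiv.Perm (Fin n))} {χ : IrrCharacter (alternatingGroup (Fin n))}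
  (hχ : classInner (fun h : alternatingGroup (Fin n) => (ψ : Equiv.Perm (Fin n) → ℂ) h)
    (χ : alternatingGroup (Fin n) → ℂ) ≠ 0)

include hidx hχ in
theorem val_eq_of_not_self (hne : p = 2 → twistSgn (alternatingGroup (Fin n)) hidx ψ ≠ ψ) :
    padicValNat p (H12.degree (χ : alternatingGroup (Fin n) → ℂ)) =
      padicValNat p (H12.degree (ψ : Equiv.Perm (Fin n) → ℂ)) := by
  by_cases hp2 : p = 2
  · have h := congrFun ((constituent_cases (alternatingGroup (Fin n)) hidx hχ).1 (hne hp2)) 1
    rw [H12.irr_apply_one] at h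
    change ((H12.degree (χ : alternatingGroup (Fin n) → ℂ) : ℕ) : ℂ) =
      (ψ : Equiv.Perm (Fin n) → ℂ) 1 at h
    rw [H12.irr_apply_one] at h
    rw [Nat.cast_inj.1 h]
  · obtain ⟨c, hc, heq⟩ := exists_degree_mul (alternatingGroup (Fin n)) hidx hχ
    have hc0 : c ≠ 0 := by rintro rfl; simp at hc
    rw [heq, padicValNat.mul hc0 (H12.irr_degree_pos χ).ne']
    have : padicValNat p c = 0 := padicValNat.eq_zero_of_not_dvd fun hd =>
      hp2 ((Nat.prime_dvd_prime_iff_eq hp.out Nat.prime_two).1 (hd.trans hc))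
    omega

include hidx hχ in
theorem two_mul_degree_of_self (hself : twistSgn (alternatingGroup (Fin n)) hidx ψ = ψ) :
    H12.degree (ψ : Equiv.Perm (Fin n) → ℂ) =
      2 * H12.degree (χ : alternatingGroup (Fin n) → ℂ) := by
  classical
  obtain ⟨c, hc, heq⟩ := exists_degree_mul (alternatingGroup (Fin n)) hidx hχ
  rcases (Nat.dvd_prime Nat.prime_two).1 hc with rfl | rfl
  swap
  · exact heq
  exfalso
  obtain ⟨μ, hμ⟩ := H12.IsCharacter.exists_mult
    (H12.IsCharacter.res (H12.isCharacter_irr ψ) (alternatingGroup (Fin n)))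
  have hmult : ∀ θ : IrrCharacter (alternatingGroup (Fin n)),
      classInner (fun h : alternatingGroup (Fin n) => (ψ : Equiv.Perm (Fin n) → ℂ) h)
        (θ : alternatingGroup (Fin n) → ℂ) = μ θ :=
    fun θ => by rw [hμ, H12.classInner_sum_smul_irr]
  have hnorm := classInner_res (alternatingGroup (Fin n)) hidx ψ
  rw [hself, H12.classInner_irr_self, hμ, H12.classInner_sum_smul_sum_smul] at hnorm
  simp only [map_natCast] at hnorm
  have h2 : ((∑ θ, μ θ * μ θ : ℕ) : ℂ) = ((2 : ℕ) : ℂ) := by
    push_cast; rw [hnorm]; norm_num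
  rw [hmult, Nat.cast_ne_zero] at hχ
  have hdeg : ∑ θ : IrrCharacter (alternatingGroup (Fin n)),
      μ θ * H12.degree (θ : alternatingGroup (Fin n) → ℂ) =
      H12.degree (χ : alternatingGroup (Fin n) → ℂ) := by
    have h := congrFun hμ 1
    simp only [OneMemClass.coe_one, Finset.sum_apply, Pi.smul_apply, smul_eq_mul, H12.irr_apply_one] at h
    rw [← one_mul (H12.degree (χ : alternatingGroup (Fin n) → ℂ)), ← heq]
    exact_mod_cast h.symm
  have hsplit := Finset.add_sum_erase Finset.univ
    (fun θ : IrrCharacter (alternatingGroup (Fin n)) => μ θ * H12.degree (θ : alternatingGroup (Fin n) → ℂ))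
    (Finset.mem_univ χ)
  simp only [hdeg] at hsplit
  have hd := H12.irr_degree_pos χ
  have hle : 1 * H12.degree (χ : alternatingGroup (Fin n) → ℂ) ≤
      μ χ * H12.degree (χ : alternatingGroup (Fin n) → ℂ) := Nat.mul_le_mul_right _ (by omega)
  have hone : μ χ = 1 := by
    have h3 : μ χ * H12.degree (χ : alternatingGroup (Fin n) → ℂ) =
      1 * H12.degree (χ : alternatingGroup (Fin n) → ℂ) := by omega
    exact Nat.eq_of_mul_eq_mul_right hd h3
  rw [Finset.sum_eq_single χ, hone] at h2
  · norm_num at h2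
  · intro θ _ hθ
    have h4 := Finset.single_le_sum (f := fun θ : IrrCharacter (alternatingGroup (Fin n)) =>
      μ θ * H12.degree (θ : alternatingGroup (Fin n) → ℂ)) (fun _ _ => Nat.zero_le _)
      (Finset.mem_erase.2 ⟨hθ, Finset.mem_univ θ⟩)
    rw [hone, one_mul] at hsplit
    have h5 : μ θ * H12.degree (θ : alternatingGroup (Fin n) → ℂ) = 0 := by omega
    simp [(mul_eq_zero.1 h5).resolve_right (H12.irr_degree_pos θ).ne']
  · simp

include hidx hχ in
theorem val_two_of_self (hp2 : p = 2) (hself : twistSgn (alternatingGroup (Fin n)) hidx ψ = ψ) :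
    padicValNat p (H12.degree (χ : alternatingGroup (Fin n) → ℂ)) + 1 =
      padicValNat p (H12.degree (ψ : Equiv.Perm (Fin n) → ℂ)) := by
  subst hp2
  rw [two_mul_degree_of_self hidx hχ hself, padicValNat.mul (by norm_num) (H12.irr_degree_pos χ).ne',
    padicValNat.self (by norm_num), add_comm]

include hidx hχ in
/-- The lower bound for positive weight. -/
theorem val_ge {w : ℕ} {R : Multiset ℕ} (hψ : ψ ∈ charsOf n p w R) (hw : 1 ≤ w) :
    padicValNat p n ! ≤
      padicValNat p (H12.degree (χ : alternatingGroup (Fin n) → ℂ)) + w + padicValNat p w ! := by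
  by_cases hs : p = 2 ∧ twistSgn (alternatingGroup (Fin n)) hidx ψ = ψ
  · obtain ⟨hp2, hself⟩ := hs
    have h1 := val_two_of_self hidx hχ hp2 hself
    subst hp2
    have h2 := val_degree_conf hψ
    have h3 := psize_eq_of_self hidx hself
    have h4 := (conf_of_mem hψ).2
    rw [wt_eq_sum_psize, Finset.sum_range_succ, Finset.sum_range_one] at h4
    rw [Finset.sum_range_succ, Finset.sum_range_one] at h2
    have h5 := hval_le (p := 2) (runner 2 (confOf ψ) 0)
    have h6 := hval_le (p := 2) (runner 2 (confOf ψ) 1)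
    have h7 : psize (runner 2 (confOf ψ) 0) ≠ 0 := by omega
    have h8 := padicValNat_factorial_lt_of_ne_zero (p := 2) h7
    have h9 : padicValNat 2 (2 * psize (runner 2 (confOf ψ) 0))! =
        padicValNat 2 (psize (runner 2 (confOf ψ) 0))! + psize (runner 2 (confOf ψ) 0) :=
      padicValNat_factorial_mul _
    rw [show w = 2 * psize (runner 2 (confOf ψ) 0) by omega, h9]
    rw [← h3] at h6
    omega
  · rw [val_eq_of_not_self hidx hχ fun h2 hself => hs ⟨h2, hself⟩]
    exact val_degree_ge hψ

include hidx hχ in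
/-- Weight below `p`: the valuation is constant. -/
theorem val_eq_of_lt {w : ℕ} {R : Multiset ℕ} (hψ : ψ ∈ charsOf n p w R) (hp2 : p ≠ 2) (hw : w < p) :
    padicValNat p (H12.degree (χ : alternatingGroup (Fin n) → ℂ)) + w = padicValNat p n ! := by
  rw [val_eq_of_not_self hidx hχ fun h => absurd h hp2]
  have h1 := val_degree_conf hψ
  have h2 := sum_hval_le (p := p) (confOf ψ)
  rw [(conf_of_mem hψ).2, padicValNat.eq_zero_of_not_dvd
    (fun h => absurd (hp.out.dvd_factorial.1 h) (by omega))] at h2
  omega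

include hidx hχ in
/-- Weight at most two in characteristic two. -/
theorem val_eq_two {w : ℕ} {R : Multiset ℕ} (hψ : ψ ∈ charsOf n p w R) (hp2 : p = 2) (hw : w ≤ 2) :
    padicValNat p (H12.degree (χ : alternatingGroup (Fin n) → ℂ)) + (if w = 2 then 3 else 1) =
      padicValNat p n ! := by
  subst hp2
  have h1 := val_degree_conf hψ
  have h4 := (conf_of_mem hψ).2
  rw [wt_eq_sum_psize, Finset.sum_range_succ, Finset.sum_range_one] at h4
  rw [Finset.sum_range_succ, Finset.sum_range_one] at h1
  have hz : ∀ r, psize (runner 2 (confOf ψ) r) ≤ 1 → hval 2 (runner 2 (confOf ψ) r) = 0 := by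
    intro r hr
    have h := hval_le (p := 2) (runner 2 (confOf ψ) r)
    rw [padicValNat.eq_zero_of_not_dvd
      (fun hd => absurd (Nat.prime_two.dvd_factorial.1 hd) (by omega))] at h
    omega
  by_cases he : psize (runner 2 (confOf ψ) 0) = psize (runner 2 (confOf ψ) 1)
  · have h2 := val_two_of_self hidx hχ rfl (self_of_psize_le_one hidx (by omega) he)
    have := hz 0 (by omega)
    have := hz 1 (by omega)
    split_ifs <;> omega
  · have h2 := val_eq_of_not_self (p := 2) hidx hχ fun _ hself => he (psize_eq_of_self hidx hself)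
    have hv2 : padicValNat 2 2 = 1 := padicValNat.self (by norm_num)
    rcases (show psize (runner 2 (confOf ψ) 0) ≤ 1 ∧ psize (runner 2 (confOf ψ) 1) ≤ 1 ∨
        psize (runner 2 (confOf ψ) 0) = 2 ∨ psize (runner 2 (confOf ψ) 1) = 2 by omega) with ⟨a, b⟩ | a | a
    · have := hz 0 a
      have := hz 1 b
      split_ifs <;> omega
    · have := hval_of_psize_two (p := 2) a
      have := hz 1 (by omega)
      split_ifs <;> omega
    · have := hval_of_psize_two (p := 2) a
      have := hz 0 (by omega)
      split_ifs <;> omega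

end H85.AltHeight
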